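import Cfsg.Agent.Lib.Classical.TensorSquareO3.Fused
import Cfsg.Agent.Lib.Classical.OrthMaxTS
import Cfsg.Agent.Lib.Classical.OrthMaxND
import Cfsg.Agent.Lib.Classical.OrthSimple

/-!
# Siegel elements with pure parameters generate `Ω` of the tensor square
-/

set_option autoImplicit false
set_option linter.unusedSectionVars false
set_option linter.style.longLine false

namespace CfsgLib.Classical.TensorSquareO3

open Matrix QuadraticMap CfsgLib.Orth CfsgLib.Classical
open scoped Kronecker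

variable {F : Type*} [Field F] [Fintype F]

/-- A pure vector. -/
def tv (u w : Fin 3 → F) : I9 → F := fun p => u p.1 * w p.2

/-- The pairing of three-dimensional vectors. -/
def pol3 (u v : Fin 3 → F) : F := u 0 * v 2 + u 1 * v 1 + u 2 * v 0

theorem tv_add_left (u u' w : Fin 3 → F) : tv (u + u') w = tv u w + tv u' w := by ext p; simp [tv, add_mul]
theorem tv_add_right (u w w' : Fin 3 → F) : tv u (w + w') = tv u w + tv u w' := by ext p; simp [tv, mul_add]
theorem tv_smul_left (c : F) (u w : Fin 3 → F) : tv (c • u) w = c • tv u w := by ext p; simp [tv, mul_assoc]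
theorem tv_smul_right (c : F) (u w : Fin 3 → F) : tv u (c • w) = c • tv u w := by ext p; simp [tv, mul_left_comm]

theorem kron_mulVec_tv (A B : Mat3 F) (u w : Fin 3 → F) : (A ⊗ₖ B) *ᵥ tv u w = tv (A *ᵥ u) (B *ᵥ w) := by
  ext p
  simp only [Matrix.mulVec, dotProduct, Matrix.kroneckerMap_apply, tv, Fintype.sum_prod_type, Finset.sum_mul,
    Finset.mul_sum]
  rw [Finset.sum_comm]
  exact Finset.sum_congr rfl fun i _ => Finset.sum_congr rfl fun k _ => by ring

theorem vec_eq (x : I9 → F) : x = ∑ i, ∑ k, x (i, k) • tv (Pi.single i 1) (Pi.single k 1) := by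
  ext ⟨i, k⟩
  simp [tv, Pi.single_apply, Finset.sum_ite_eq]

variable {Q : QuadraticForm F (I9 → F)}
  (hpol : ∀ x y, polar Q x y = x ⬝ᵥ ((J3 : Mat3 F) ⊗ₖ (J3 : Mat3 F)) *ᵥ y)
include hpol

theorem polar_tv (u w u' w' : Fin 3 → F) : polar Q (tv u w) (tv u' w') = pol3 u u' * pol3 w w' := by
  rw [hpol, kron_mulVec_tv]
  simp [dotProduct, tv, pol3, J3, Matrix.mulVec, Fintype.sum_prod_type, Fin.sum_univ_three]
  ring

theorem quad_tv (h2 : (2 : F) ≠ 0) (u w : Fin 3 → F) (h : pol3 u u = 0 ∨ pol3 w w = 0) : Q (tv u w) = 0 := by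
  refine mul_left_cancel₀ h2 ?_
  rw [mul_zero, ← polar_self', polar_tv hpol]
  rcases h with h | h <;> simp [h]

theorem nondeg9 : (polarBilin Q).Nondegenerate := by
  refine nondegenerate_of_left fun x hx => ?_
  have h : ((J3 : Mat3 F) ⊗ₖ (J3 : Mat3 F))ᵀ *ᵥ x = 0 := by
    ext q
    have := hx (Pi.single q 1)
    rw [hpol, dotProduct_mulVec, dotProduct_single_one, ← Matrix.mulVec_transpose] at this
    simpa using this
  have hJ : ((J3 : Mat3 F) ⊗ₖ (J3 : Mat3 F))ᵀ = J3 ⊗ₖ J3 := by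
    rw [← kroneckerMap_transpose]
    congr 1 <;> (ext i j; fin_cases i <;> fin_cases j <;> simp [J3])
  rw [hJ] at h
  have := congrArg (((J3 : Mat3 F) ⊗ₖ (J3 : Mat3 F)) *ᵥ ·) h
  simpa [Matrix.mulVec_mulVec, J9_mul_self] using this

/-- A radical element is a Siegel transformation. -/
theorem rad_siegel (h2 : (2 : F) ≠ 0) {K : Mat3 F} {z : Fin 3 → F} (hz : pol3 ![1, 0, 0] z = 0 ∨ True)
    (hK : ∀ y, K *ᵥ y = pol3 z y • ![(1 : F), 0, 0] - pol3 ![1, 0, 0] y • z) {g : orthGroup Q}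
    (hg : ∀ x, g.1 x = (Rad 0 K) *ᵥ x) : IsSiegel g (tv ![1, 0, 0] ![1, 0, 0]) (tv ![1, 0, 0] z) := by
  have he : pol3 (![1, 0, 0] : Fin 3 → F) ![1, 0, 0] = 0 := by simp [pol3]
  refine ⟨quad_tv hpol h2 _ _ (Or.inl he), by rw [polar_tv hpol, he, zero_mul], fun x => ?_⟩
  rw [quad_tv hpol h2 _ _ (Or.inl he), hg, zero_mul, sub_zero]
  have key : ∀ u w, ((N * N) ⊗ₖ K : Op F) *ᵥ tv u w =
      polar Q (tv ![1, 0, 0] ![1, 0, 0]) (tv u w) • tv ![1, 0, 0] z +
        (-(polar Q (tv ![1, 0, 0] z) (tv u w))) • tv ![1, 0, 0] ![1, 0, 0] := fun u w => by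
    rw [kron_mulVec_tv, polar_tv hpol, polar_tv hpol, hK, N_sq]
    ext ⟨i, k⟩
    simp [tv, pol3, Matrix.mulVec, dotProduct, Fin.sum_univ_three]
    fin_cases i <;> fin_cases k <;> simp <;> ring
  rw [Rad, Matrix.add_mulVec, Matrix.add_mulVec, Matrix.one_mulVec, kronecker_zero, Matrix.zero_mulVec, add_zero]
  rw [add_assoc]
  refine congrArg (x + ·) ?_
  let L₁ : (I9 → F) →ₗ[F] (I9 → F) := Matrix.mulVecLin ((N * N) ⊗ₖ K)
  let L₂ : (I9 → F) →ₗ[F] (I9 → F) := (polarBilin Q (tv ![1, 0, 0] ![1, 0, 0])).smulRight (tv ![1, 0, 0] z) +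
    (-(polarBilin Q (tv ![1, 0, 0] z))).smulRight (tv ![1, 0, 0] ![1, 0, 0])
  show L₁ x = L₂ x
  rw [vec_eq x, map_sum, map_sum]
  refine Finset.sum_congr rfl fun i _ => ?_
  rw [map_sum, map_sum]
  refine Finset.sum_congr rfl fun k _ => ?_
  rw [map_smul, map_smul]
  exact congrArg _ (key _ _)

/-- A subgroup containing the factor roots and the radical elements contains `Ω`. -/
theorem omega_le_of_rad (h2 : (2 : F) ≠ 0) {M : Subgroup (orthGroup Q)}
    (hA : ∀ C, Iso C → ∀ a, ∃ k ∈ M, ∀ x, k.1 x = ((C * uM a * adj C) ⊗ₖ (1 : Mat3 F)) *ᵥ x)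
    (hB : ∀ C, Iso C → ∀ a, ∃ k ∈ M, ∀ x, k.1 x = ((1 : Mat3 F) ⊗ₖ (C * uM a * adj C)) *ᵥ x)
    (hR : ∀ K : Mat3 F, adj K = -K → ∃ k ∈ M, ∀ x, k.1 x = Rad 0 K *ᵥ x) :
    commutator (orthGroup Q) ≤ M := by
  classical
  have hnd := nondeg9 hpol
  set e : Fin 3 → F := ![1, 0, 0] with he
  set o : Fin 3 → F := ![0, 1, 0] with ho
  set f : Fin 3 → F := ![0, 0, 1] with hf
  have dec : ∀ y : Fin 3 → F, y = y 0 • e + y 1 • o + y 2 • f := fun y => by
    ext i; fin_cases i <;> simp [he, ho, hf]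
  have pe : ∀ y, pol3 e y = y 2 := fun y => by simp [pol3, he]
  have po : ∀ y, pol3 o y = y 1 := fun y => by simp [pol3, ho]
  have pf : ∀ y, pol3 f y = y 0 := fun y => by simp [pol3, hf]
  set d := tv e e with hd
  have hQd : Q d = 0 := quad_tv hpol h2 _ _ (Or.inl (by simp [pol3, he]))
  -- moves by products of roots
  have mA : ∀ (C : Mat3 F), Iso C → ∀ a, ∃ k ∈ M, ∀ u w, k.1 (tv u w) = tv ((C * uM a * adj C) *ᵥ u) w :=
    fun C hC a => by
      obtain ⟨k, hk, h⟩ := hA C hC a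
      exact ⟨k, hk, fun u w => by rw [h, kron_mulVec_tv, Matrix.one_mulVec]⟩
  have mB : ∀ (C : Mat3 F), Iso C → ∀ a, ∃ k ∈ M, ∀ u w, k.1 (tv u w) = tv u ((C * uM a * adj C) *ᵥ w) :=
    fun C hC a => by
      obtain ⟨k, hk, h⟩ := hB C hC a
      exact ⟨k, hk, fun u w => by rw [h, kron_mulVec_tv, Matrix.one_mulVec]⟩
  let lv : F → Fin 3 → F := fun s => ![1, s, -(s ^ 2 / 2)]
  have hlv : ∀ s, lM s *ᵥ e = lv s := fun s => by
    ext i; fin_cases i <;> simp [lv, lM, he, Matrix.mulVec, dotProduct, Fin.sum_univ_three]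
  have lA : ∀ s, ∃ k ∈ M, ∀ u w, k.1 (tv u w) = tv (lM s *ᵥ u) w := fun s => by
    simpa [lM_as_conj] using mA J3 iso_J3 (-s)
  have lB : ∀ s, ∃ k ∈ M, ∀ u w, k.1 (tv u w) = tv u (lM s *ᵥ w) := fun s => by
    simpa [lM_as_conj] using mB J3 iso_J3 (-s)
  have uA : ∀ s, ∃ k ∈ M, ∀ u w, k.1 (tv u w) = tv (uM s *ᵥ u) w := fun s => by
    simpa [adj_one] using mA 1 iso_one s
  have uB : ∀ s, ∃ k ∈ M, ∀ u w, k.1 (tv u w) = tv u (uM s *ᵥ w) := fun s => by
    simpa [adj_one] using mB 1 iso_one s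
  have hflip : uM (1 : F) *ᵥ (lM (-2) *ᵥ e) = (-2 : F) • f := by
    rw [hlv]
    ext i
    fin_cases i <;> simp [lv, uM, hf, Matrix.mulVec, dotProduct, Fin.sum_univ_three] <;> field_simp <;> ring
  -- parameters with first factor `e`
  have hpd : ∀ x y, polar Q d (tv x y) = x 2 * y 2 := fun x y => by rw [hd, polar_tv hpol, pe, pe]
  have base : ∀ (z : Fin 3 → F), (∃ K : Mat3 F, adj K = -K ∧ ∀ y, K *ᵥ y = pol3 z y • e - pol3 e y • z) →
      SiegelIn M d (tv e z) := fun z ⟨K, hK, hKy⟩ g hg => by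
    obtain ⟨k, hk, hkx⟩ := hR K hK
    rwa [hg.unique (rad_siegel hpol h2 (Or.inr trivial) hKy hkx)]
  have sE : ∀ y, SiegelIn M d (tv e y) := by
    have h1 : ∀ t : F, SiegelIn M d (tv e (t • o)) := fun t => base _ ⟨t • N, by rw [adj_smul, adj_N, smul_neg],
      fun y => by
        ext i
        fin_cases i <;> simp [N, pol3, he, ho, Matrix.mulVec, dotProduct, Fin.sum_univ_three] <;> ring⟩
    have h3 : ∀ t : F, SiegelIn M d (tv e (t • f)) := fun t => base _ ⟨t • H, by rw [adj_smul, adj_H, smul_neg],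
      fun y => by
        ext i
        fin_cases i <;> simp [H, pol3, he, hf, Matrix.mulVec, dotProduct, Fin.sum_univ_three] <;> ring⟩
    intro y
    have hp : ∀ z, polar Q d (tv e z) = 0 := fun z => by rw [hpd]; simp [he]
    rw [dec y, tv_add_right, tv_add_right, tv_smul_right (y 0)]
    refine SiegelIn.add hnd hQd ?_ (hp _) (SiegelIn.add hnd hQd ?_ (hp _) (siegelIn_smul_self M hQd _) (h1 _)) (h3 _)
    · rw [polar_add_right, hp, polar_smul_r', hp, mul_zero, add_zero]
    · rw [polar_smul_r', hp, mul_zero]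
  -- second factor `o` or `e`
  have hx2 : ∀ w : Fin 3 → F, w 2 = 0 → ∀ x, polar Q d (tv x w) = 0 := fun w hw x => by rw [hpd, hw, mul_zero]
  have sV : ∀ s : F, s ≠ 0 → ∀ t : F, SiegelIn M d (tv (lv s) (t • o)) ∧ SiegelIn M d (tv (lv s) (t • e)) := by
    intro s hs t
    set v := lv s
    have hv : pol3 v v = 0 := by simp [pol3, v, lv]; field_simp; ring
    have hv2 : v 2 ≠ 0 := by simp [v, lv, hs, h2]
    obtain ⟨k, hk, hkv⟩ := lA s
    have mk : ∀ r : F, SiegelIn M (tv v e) (tv v (r • o)) := fun r => by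
      have := SiegelIn.conj (sE (r • o)) hk
      rw [hd, hkv, hkv, hlv] at this
      have e' : lM s *ᵥ e = v := hlv s
      simpa [e'] using this
    have hmov : ∀ (r : F), ∀ z : Fin 3 → F, ∃ g ∈ M, g.1 d = d ∧
        g.1 (tv e z) = tv e z + (v 2 * z 2) • tv v (r • o) + (-(v 2 * (r * z 1))) • tv v e := fun r z => by
      obtain ⟨g, hg⟩ := exists_isSiegel hnd (quad_tv hpol h2 v e (Or.inl hv))
        (show polar Q (tv v e) (tv v (r • o)) = 0 by rw [polar_tv hpol, hv, zero_mul])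
      refine ⟨g, mk r g hg, hg.fix ?_ ?_, ?_⟩
      · rw [hd, polar_tv hpol, pe e, show e 2 = 0 by simp [he], mul_zero]
      · rw [hd, polar_tv hpol]; simp [pol3, ho, he]
      · rw [hg.2.2, quad_tv hpol h2 v (r • o) (Or.inl hv), polar_tv hpol, polar_tv hpol, zero_mul, sub_zero, pe z]
        congr 2
        · simp [pol3, he]
        · simp [pol3, he, ho]
    have hpe : ∀ z, polar Q d (tv e z) = 0 := fun z => by rw [hpd]; simp [he]
    constructor
    · obtain ⟨g, hgM, hgd, hgz⟩ := hmov (t / v 2) f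
      have h1 := SiegelIn.conj (sE f) hgM
      rw [hgd, hgz, show f 2 = 1 by simp [hf], show f 1 = 0 by simp [hf], mul_one, mul_zero, mul_zero, neg_zero,
        zero_smul, add_zero, ← tv_smul_right, smul_smul, mul_div_cancel₀ _ hv2] at h1
      have hp := hx2 (t • o) (by simp [ho]) v
      have h3 := SiegelIn.add hnd hQd (by rw [polar_add_right, hpe, hp, add_zero])
        (by rw [polar_neg_right, hpe, neg_zero]) h1 (SiegelIn.neg hnd hQd (hpe f) (sE f))
      rwa [add_neg_cancel_comm] at h3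
    · obtain ⟨g, hgM, hgd, hgz⟩ := hmov (-t / v 2) o
      have h1 := SiegelIn.conj (sE o) hgM
      rw [hgd, hgz, show o 2 = 0 by simp [ho], show o 1 = 1 by simp [ho], mul_zero, zero_smul, add_zero, mul_one,
        mul_div_cancel₀ _ hv2, neg_neg, ← tv_smul_right] at h1
      have hp := hx2 (t • e) (by simp [he]) v
      have h3 := SiegelIn.add hnd hQd (by rw [polar_add_right, hpe, hp, add_zero])
        (by rw [polar_neg_right, hpe, neg_zero]) h1 (SiegelIn.neg hnd hQd (hpe o) (sE o))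
      rwa [add_neg_cancel_comm] at h3
  have sX : ∀ w, w = o ∨ w = e → ∀ x, SiegelIn M d (tv x w) := by
    intro w hw x
    have hw2 : w 2 = 0 := by rcases hw with rfl | rfl <;> simp [ho, he]
    have hv : ∀ s : F, s ≠ 0 → ∀ t : F, SiegelIn M d (tv (t • lv s) w) := fun s hs t => by
      rw [tv_smul_left, ← tv_smul_right]
      rcases hw with rfl | rfl
      · exact (sV s hs t).1
      · exact (sV s hs t).2
    have hp := hx2 w hw2
    have hE : SiegelIn M d (tv ((x 0 + 2 * x 2) • e) w) := by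
      rw [tv_smul_left, ← tv_smul_right]; exact sE _
    have ex : x = (x 0 + 2 * x 2) • e + ((x 1 / 2 - x 2) • lv 1 + (-(x 1 / 2) - x 2) • lv (-1)) := by
      ext i; fin_cases i <;> simp [lv, he] <;> field_simp <;> ring
    rw [ex, tv_add_left, tv_add_left]
    exact SiegelIn.add hnd hQd (hp _) (by rw [polar_add_right, hp, hp, add_zero]) hE
      (SiegelIn.add hnd hQd (hp _) (hp _) (hv 1 one_ne_zero _) (hv (-1) (neg_ne_zero.2 one_ne_zero) _))
  -- the last parameter
  have sOF : ∀ t : F, SiegelIn M d (tv o (t • f)) := by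
    intro t
    obtain ⟨k₁, hk₁, hk₁v⟩ := lB (-2)
    obtain ⟨k₂, hk₂, hk₂v⟩ := uB 1
    have h1 := SiegelIn.conj (SiegelIn.conj (sX e (Or.inr rfl) ((t / 4) • o)) hk₁) hk₂
    rw [hd, hk₁v, hk₁v, hk₂v, hk₂v, hflip, tv_smul_right] at h1
    have h1' : SiegelIn M (tv e f) ((-2 : F) • tv ((t / 4) • o) ((-2 : F) • f)) := fun g hg => by
      refine h1 g ?_
      have hg' : IsSiegel g ((-2 : F)⁻¹ • (-2 : F) • tv e f) ((-2 : F) • tv ((t / 4) • o) ((-2 : F) • f)) := by
        rwa [inv_smul_smul₀ (neg_ne_zero.2 h2)]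
      have := hg'.of_smul (inv_ne_zero (neg_ne_zero.2 h2))
      rwa [inv_smul_smul₀ (neg_ne_zero.2 h2)] at this
    rw [← tv_smul_right, smul_smul, tv_smul_left, ← tv_smul_right, smul_smul, show t / 4 * (-2 * -2) = t by
      rw [show (-2 : F) * -2 = 4 by ring, div_mul_cancel₀ _ (four_ne h2)]] at h1'
    have hef : Q (tv e f) = 0 := quad_tv hpol h2 _ _ (Or.inl (by simp [pol3, he]))
    have hp0 : polar Q (tv e f) (tv o (t • f)) = 0 := by rw [polar_tv hpol]; simp [pol3, he, ho, hf]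
    obtain ⟨g, hg⟩ := exists_isSiegel hnd hef hp0
    have h3 := SiegelIn.conj (sX e (Or.inr rfl) f) (h1' g hg)
    rw [hg.fix (by rw [hd, polar_tv hpol]; simp [pol3, he, hf]) (by rw [hd, polar_tv hpol]; simp [pol3, he, ho, hf]),
      hg.2.2, quad_tv hpol h2 o (t • f) (Or.inr (by simp [pol3, hf])), polar_tv hpol, polar_tv hpol] at h3
    simp [pol3, he, ho, hf] at h3
    rw [← he, ← ho, ← hf] at h3
    have hp1 : polar Q d (tv f e) = 0 := hx2 e (by simp [he]) f
    have hp2 : polar Q d (tv o (t • f)) = 0 := by rw [hpd]; simp [ho]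
    have htf : ![0, 0, t] = t • f := by ext i; fin_cases i <;> simp [hf]
    rw [htf] at h3
    have h4 := SiegelIn.add hnd hQd (by rw [polar_add_right, hp1, hp2, add_zero])
      (by rw [polar_neg_right, hp1, neg_zero]) h3 (SiegelIn.neg hnd hQd hp1 (sX e (Or.inr rfl) f))
    rwa [add_neg_cancel_comm] at h4
  have axd : AxIn M d := by
    intro y g hg
    have hy : y (2, 2) = 0 := by
      have h := hg.2.1
      rw [vec_eq y] at h
      simpa [hd, hpol, tv, he, J3, dotProduct, Matrix.mulVec, Fintype.sum_prod_type, Fin.sum_univ_three,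
        Pi.single_apply] using h
    have ey : y = tv e ![y (0, 0), y (0, 1), y (0, 2)] + (tv ![0, y (1, 0), y (2, 0)] e +
        (tv ![0, y (1, 1), y (2, 1)] o + tv o (y (1, 2) • f))) := by
      ext ⟨i, k⟩
      fin_cases i <;> fin_cases k <;> simp [tv, he, ho, hf, hy]
    have p1 : ∀ z, polar Q d (tv e z) = 0 := fun z => by rw [hpd]; simp [he]
    have p4 : ∀ s : F, polar Q d (tv o (s • f)) = 0 := fun s => by rw [hpd]; simp [ho]
    rw [ey] at hg
    refine SiegelIn.add hnd hQd (p1 _) ?_ (sE _) (SiegelIn.add hnd hQd (hx2 e (by simp [he]) _) ?_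
      (sX e (Or.inr rfl) _) (SiegelIn.add hnd hQd (hx2 o (by simp [ho]) _) (p4 _) (sX o (Or.inl rfl) _) (sOF _))) g hg
    · rw [polar_add_right, polar_add_right, hx2 e (by simp [he]), hx2 o (by simp [ho]), p4, add_zero, add_zero]
    · rw [polar_add_right, hx2 o (by simp [ho]), p4, add_zero]
  -- enough axes
  let pts : Fin 3 → Fin 3 → F := ![e, lv 1, f]
  have hpts : ∀ i w, AxIn M (tv e w) → AxIn M (tv (pts i) w) := fun i w h => by
    fin_cases i
    · exact h
    · obtain ⟨k, hk, hkv⟩ := lA 1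
      have := h.map hk
      rw [hkv, hlv] at this
      exact this
    · obtain ⟨k, hk, hkv⟩ := lA (-2)
      obtain ⟨k', hk', hkv'⟩ := uA 1
      have := (h.map hk).map hk'
      rw [hkv, hkv', hflip, tv_smul_left] at this
      exact this.of_smul (neg_ne_zero.2 h2)
  have hpts' : ∀ i, AxIn M (tv e (pts i)) := fun i => by
    fin_cases i
    · exact axd
    · obtain ⟨k, hk, hkv⟩ := lB 1
      have := axd.map hk
      rw [hd, hkv, hlv] at this
      exact this
    · obtain ⟨k, hk, hkv⟩ := lB (-2)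
      obtain ⟨k', hk', hkv'⟩ := uB 1
      have := (axd.map hk).map hk'
      rw [hd, hkv, hkv', hflip, tv_smul_right] at this
      exact this.of_smul (neg_ne_zero.2 h2)
  have hAx : ∀ i j, AxIn M (tv (pts i) (pts j)) := fun i j => hpts i _ (hpts' j)
  have hQp : ∀ i j, Q (tv (pts i) (pts j)) = 0 := fun i j => quad_tv hpol h2 _ _ (Or.inl (by
    fin_cases i <;> simp [pts, pol3, lv, he, hf]; field_simp; ring))
  have hsep : ∀ y, y ≠ 0 → ∃ i j, polar Q (tv (pts i) (pts j)) y ≠ 0 := by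
    intro y hy
    by_contra! hall
    refine hy (hnd.2 _ fun x => ?_)
    let c : (Fin 3 → F) → Fin 3 → F := fun u => ![u 0 - u 1, u 1, u 2 + u 1 / 2]
    have hc : ∀ u : Fin 3 → F, u = ∑ i, c u i • pts i := fun u => by
      ext k
      fin_cases k <;> simp [c, pts, lv, he, hf, Fin.sum_univ_three] <;> ring
    show polarBilin Q x y = 0
    rw [vec_eq x]
    simp only [map_sum, map_smul, LinearMap.sum_apply, LinearMap.smul_apply]
    refine Finset.sum_eq_zero fun i _ => Finset.sum_eq_zero fun k _ => ?_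
    rw [hc (Pi.single i 1), hc (Pi.single k 1)]
    simp only [Fin.sum_univ_three, tv_add_left, tv_add_right, tv_smul_left, tv_smul_right, map_add, map_smul,
      LinearMap.add_apply, LinearMap.smul_apply, QuadraticMap.polarBilin_apply_apply, hall, smul_zero, add_zero]
  have hn : 5 ≤ Module.finrank F (I9 → F) := by simp
  obtain ⟨hp⟩ := exists_hypPairs hnd hn
  rw [commutator_eq_siegelGroup hnd (good_of_two_ne h2) hp hn]
  refine siegelGroup_le_of_ax fun y hy => ?_
  rcases eq_or_ne y 0 with rfl | hy0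
  · exact AxIn.zero M
  obtain ⟨i, j, hij⟩ := hsep y hy0
  have hr0 : tv (pts i) (pts j) ≠ 0 := fun h => hij (by rw [h, polar_zero_left])
  obtain ⟨i', j', hij'⟩ := hsep _ hr0
  exact ax_move hnd (hAx i j) (hQp i j) (hQp i' j') hy (by rw [polar_comm]; exact hij') hij (hAx i' j')

end CfsgLib.Classical.TensorSquareO3
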