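import Cfsg.Agent.Lib.Classical.TensorSquareO3.NoFusion

/-!
# A fused factor root group gives a Siegel element with pure parameters
-/

set_option autoImplicit false
set_option linter.unusedSectionVars false
set_option linter.style.longLine false

namespace CfsgLib.Classical.TensorSquareO3

open Matrix
open scoped Kronecker

variable {F : Type*} [Field F] [Fintype F] {M : Subgroup (GL I9 F)}

theorem TT_sq {k : GL I9 F} (hk : k ∈ TT) : IsTens (k * k) := by
  rcases hk with h | h
  · exact h.mul h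
  · rw [show k * k = k * W * (W * (k * W) * W) by simp [mul_assoc, ← mul_assoc W W, W_mul_W]]
    exact h.mul h.conj_W

theorem conj_pow_adj {C : Mat3 F} (hC : Iso C) (X : Mat3 F) (n : ℕ) :
    (C * X * adj C) ^ n = C * X ^ n * adj C := by
  induction n with
  | zero => rw [pow_zero, pow_zero, Matrix.mul_one, hC.mul_adj]
  | succ n ih =>
    rw [pow_succ, ih, pow_succ]
    calc C * X ^ n * adj C * (C * X * adj C) = C * X ^ n * (adj C * C) * X * adj C := by simp only [Matrix.mul_assoc]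
      _ = C * (X ^ n * X) * adj C := by rw [show adj C * C = 1 from hC]; simp [Matrix.mul_assoc]

/-- A unipotent factor: an isometry with `C ^ p = 1`. -/
def Unip (C : Mat3 F) : Prop := Iso C ∧ C ^ ringChar F = 1

theorem odd_char (h2 : (2 : F) ≠ 0) : Odd (ringChar F) := by
  refine (CharP.char_is_prime F (ringChar F)).odd_of_ne_two fun h => h2 ?_
  have := ringChar.charP F
  rw [h] at this
  exact CharTwo.two_eq_zero

theorem root_one {s : F} (h : s ^ ringChar F = 1) : s = 1 := by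
  haveI := ringChar.charP F
  haveI : Fact (ringChar F).Prime := ⟨CharP.char_is_prime F _⟩
  exact (frobenius F (ringChar F)).injective (by rw [frobenius_def, frobenius_def, h, one_pow])

theorem unip_unique {C D C' D' : Mat3 F} (hC : Unip C) (hC' : Unip C') (hD' : Iso D')
    (h : C ⊗ₖ D = C' ⊗ₖ D') : C = C' ∧ D = D' := by
  have h1 : (adj C' * C) ⊗ₖ (adj D' * D) = 1 := by
    rw [mul_kronecker_mul, h, ← mul_kronecker_mul, show adj C' * C' = 1 from hC'.1, show adj D' * D' = 1 from hD',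
      one_kronecker_one]
  obtain ⟨s, -, e1, e2⟩ := kron_eq_one h1
  have eC : C = s • C' := by
    calc C = C' * (adj C' * C) := by rw [← Matrix.mul_assoc, hC'.1.mul_adj, Matrix.one_mul]
      _ = s • C' := by rw [e1, Matrix.mul_smul, Matrix.mul_one]
  have hs : s = 1 := root_one (by
    have := hC.2
    rw [eC, smul_pow, hC'.2] at this
    simpa using congrFun (congrFun this 0) 0)
  subst hs
  refine ⟨by rw [eC, one_smul], ?_⟩
  calc D = D' * (adj D' * D) := by rw [← Matrix.mul_assoc, hD'.mul_adj, Matrix.one_mul]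
    _ = D' := by rw [e2, inv_one, one_smul, Matrix.mul_one]

theorem exists_unip (h2 : (2 : F) ≠ 0) {k : GL I9 F} (hk : Iso2 k) (ht : IsTens k) (hp : k ^ ringChar F = 1) :
    ∃ C D, Unip C ∧ Unip D ∧ k.1 = C ⊗ₖ D := by
  obtain ⟨A, B, e⟩ := ht
  obtain ⟨C, D, hC, hD, e⟩ := iso_factors h2 hk e
  have hpw : ∀ n : ℕ, (k ^ n).1 = (C ^ n) ⊗ₖ (D ^ n) := fun n => by
    induction n with
    | zero => simp
    | succ n ih => rw [pow_succ, Units.val_mul, ih, e, ← mul_kronecker_mul, ← pow_succ, ← pow_succ]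
  have h1 : (C ^ ringChar F) ⊗ₖ (D ^ ringChar F) = 1 := by rw [← hpw, hp, Units.val_one]
  obtain ⟨c, hc, e1, e2⟩ := kron_eq_one h1
  have hIpow : ∀ n : ℕ, Iso (C ^ n) := fun n => by
    induction n with
    | zero => rw [pow_zero]; exact iso_one
    | succ n ih => rw [pow_succ]; exact ih.mul hC
  have hcc : c * c = 1 := by
    have := hIpow (ringChar F)
    rw [e1, Iso, adj_smul, adj_one, smul_mul_smul_comm, Matrix.one_mul] at this
    simpa using congrFun (congrFun this 0) 0
  have hci : c⁻¹ = c := inv_eq_of_mul_eq_one_right hcc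
  obtain ⟨m, hm⟩ := odd_char (F := F) h2
  have hcp : c ^ ringChar F = c := by rw [hm, pow_succ, pow_mul, pow_two, hcc, one_pow, one_mul]
  refine ⟨c • C, c • D, ⟨?_, ?_⟩, ⟨?_, ?_⟩, ?_⟩
  · rw [Iso, adj_smul, smul_mul_smul_comm, hcc, one_smul, hC]
  · rw [smul_pow, e1, hcp, smul_smul, hcc, one_smul]
  · rw [Iso, adj_smul, smul_mul_smul_comm, hcc, one_smul, hD]
  · rw [smul_pow, e2, hcp, hci, smul_smul, hcc, one_smul]
  · rw [e, smul_kronecker, kronecker_smul, smul_smul, hcc, one_smul]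

theorem unip_comm {A B A' B' : Mat3 F} (hA : Unip A) (hB : Iso B) (hA' : Unip A') (hB' : Iso B')
    (h : (A * A') ⊗ₖ (B * B') = (A' * A) ⊗ₖ (B' * B)) : A * A' = A' * A := by
  have h1 : (adj (A' * A) * (A * A')) ⊗ₖ (adj (B' * B) * (B * B')) = 1 := by
    rw [mul_kronecker_mul, h, ← mul_kronecker_mul, show adj (A' * A) * (A' * A) = 1 from hA'.1.mul hA.1,
      show adj (B' * B) * (B' * B) = 1 from hB'.mul hB, one_kronecker_one]
  obtain ⟨s, -, e1, -⟩ := kron_eq_one h1
  have e : A * A' = s • (A' * A) := by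
    calc A * A' = (A' * A) * (adj (A' * A) * (A * A')) := by
          rw [← Matrix.mul_assoc (A' * A), (hA'.1.mul hA.1).mul_adj, Matrix.one_mul]
      _ = s • (A' * A) := by rw [e1, Matrix.mul_smul, Matrix.mul_one]
  have e' : A * A' * adj A = s • A' := by
    rw [e, Matrix.smul_mul, Matrix.mul_assoc, hA.1.mul_adj, Matrix.mul_one]
  have hs : s = 1 := root_one (by
    have := conj_pow_adj hA.1 A' (ringChar F)
    rw [e', smul_pow, hA'.2, Matrix.mul_one, hA.1.mul_adj] at this
    simpa using congrFun (congrFun this 0) 0)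
  rw [e, hs, one_smul]

/-- Commuting unipotent matrices fix a common vector. -/
theorem exists_common_fixed (D : F → Mat3 F) (hu : ∀ a, D a ^ ringChar F = 1) (hc : ∀ a b, D a * D b = D b * D a) :
    ∃ v : Fin 3 → F, v ≠ 0 ∧ ∀ a, D a *ᵥ v = v := by
  classical
  haveI := ringChar.charP F
  haveI : Fact (ringChar F).Prime := ⟨CharP.char_is_prime F _⟩
  suffices h : ∀ s : Finset F, ∃ v : Fin 3 → F, v ≠ 0 ∧ ∀ a ∈ s, D a *ᵥ v = v by
    obtain ⟨v, hv, h⟩ := h Finset.univ
    exact ⟨v, hv, fun a => h a (Finset.mem_univ a)⟩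
  intro s
  induction s using Finset.induction_on with
  | empty => exact ⟨Pi.single 0 1, fun h => one_ne_zero (α := F) (by simpa using congrFun h 0), fun a ha => absurd ha (Finset.notMem_empty a)⟩
  | insert b s hb ih =>
    obtain ⟨v, hv, hfix⟩ := ih
    set X := D b - 1 with hX
    have hnil : X ^ ringChar F = 0 := by
      rw [hX, sub_pow_char_of_commute _ (Commute.one_right _), one_pow, hu, sub_self]
    have hex : ∃ n : ℕ, (X ^ n) *ᵥ v = 0 := ⟨ringChar F, by rw [hnil, Matrix.zero_mulVec]⟩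
    have hmin := Nat.find_spec hex
    cases hn : Nat.find hex with
    | zero => rw [hn, pow_zero, Matrix.one_mulVec] at hmin; exact absurd hmin hv
    | succ k =>
      rw [hn, pow_succ', ← Matrix.mulVec_mulVec] at hmin
      refine ⟨(X ^ k) *ᵥ v, Nat.find_min hex (by omega), fun a ha => ?_⟩
      rcases Finset.mem_insert.1 ha with rfl | ha
      · rw [hX, Matrix.sub_mulVec, Matrix.one_mulVec, sub_eq_zero] at hmin
        exact hmin
      · have hcX : Commute (D a) (X ^ k) := ((show Commute (D a) (D b) from hc a b).sub_right (Commute.one_right _)).pow_right k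
        rw [Matrix.mulVec_mulVec, hcX.eq, ← Matrix.mulVec_mulVec, hfix a ha]

/-- The first factor of the products `h a`, if the second factors fix a common vector, is a quadratic function. -/
theorem factor_quad {Z0 Z1 Z2 : Op F} (h : F → Op F) (hh : ∀ a, h a = Z0 + a • Z1 + a ^ 2 • Z2) (C D : F → Mat3 F)
    (hCD : ∀ a, h a = C a ⊗ₖ D a) {v : Fin 3 → F} (hv : v ≠ 0) (hfix : ∀ a, D a *ᵥ v = v) :
    ∃ P0 P1 P2 : Mat3 F, ∀ a, C a = P0 + a • P1 + a ^ 2 • P2 := by
  obtain ⟨k, hk⟩ : ∃ k, v k ≠ 0 := by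
    by_contra! e; exact hv (funext e)
  let S : Op F → Mat3 F := fun Z => Matrix.of fun i j => (∑ l, Z (i, k) (j, l) * v l) / v k
  refine ⟨S Z0, S Z1, S Z2, fun a => ?_⟩
  have e : S (h a) = C a := by
    ext i j
    simp only [S, Matrix.of_apply, hCD, Matrix.kroneckerMap_apply, mul_assoc, ← Finset.mul_sum]
    rw [show ∑ l, D a k l * v l = v k from congrFun (hfix a) k, mul_div_assoc, div_self hk, mul_one]
  rw [← e, hh]
  ext i j
  simp only [S, Matrix.of_apply, Matrix.add_apply, Matrix.smul_apply, smul_eq_mul, add_mul, Finset.sum_add_distrib,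
    mul_assoc, ← Finset.mul_sum]
  field_simp

/-- A quadratic one-parameter group of isometries is an exponential. -/
theorem quad_hom (h2 : (2 : F) ≠ 0) (hq : 5 ≤ Fintype.card F) {C : F → Mat3 F} (hC : ∀ a, Iso (C a))
    (hadd : ∀ a b, C (a + b) = C a * C b) {P0 P1 P2 : Mat3 F} (e : ∀ a, C a = P0 + a • P1 + a ^ 2 • P2) :
    ∃ P : Mat3 F, adj P = -P ∧ P * (P * P) = 0 ∧ ∀ a, C a = 1 + a • P + (a ^ 2 / 2) • (P * P) := by
  have h00 : C 0 = 1 := by
    have := hadd 0 0
    rw [add_zero] at this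
    have h1 := congrArg (adj (C 0) * ·) this
    simp only [← Matrix.mul_assoc, show adj (C 0) * C 0 = 1 from hC 0, Matrix.one_mul] at h1
    exact h1.symm
  have eP0 : P0 = 1 := by
    have := e 0
    rw [h00] at this
    simpa using this.symm
  subst eP0
  have hstep : ∀ b : F, P1 * C b - (P1 + (2 * b) • P2) = 0 := fun b => by
    refine (quartic_zero h2 hq (c0 := C b - C b) (c2 := P2 * C b - P2) (c3 := 0) (c4 := 0) fun a => ?_).2.1
    have h := hadd a b
    rw [e (a + b), e a, Matrix.add_mul, Matrix.add_mul, Matrix.one_mul, Matrix.smul_mul, Matrix.smul_mul] at h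
    have hb := e b
    linear_combination (norm := module) -h - hb
  have q1 := quartic_zero h2 hq (c0 := P1 * (1 : Mat3 F) - P1) (c1 := P1 * P1 - (2 : F) • P2) (c2 := P1 * P2) (c3 := 0)
    (c4 := 0) fun b => by
      have := hstep b
      rw [e b, Matrix.mul_add, Matrix.mul_add, Matrix.mul_smul, Matrix.mul_smul] at this
      linear_combination (norm := module) this
  have eP2 : P2 = (2 : F)⁻¹ • (P1 * P1) := by
    rw [sub_eq_zero.1 q1.2.1, smul_smul, inv_mul_cancel₀ h2, one_smul]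
  have hadj : ∀ a, adj (C a) = C (-a) := fun a => by
    have h1 : C (-a) * C a = 1 := by rw [← hadd, neg_add_cancel, h00]
    calc adj (C a) = C (-a) * C a * adj (C a) := by rw [h1, Matrix.one_mul]
      _ = C (-a) := by rw [Matrix.mul_assoc, (hC a).mul_adj, Matrix.mul_one]
  have hskew : adj P1 + P1 = 0 :=
    (quartic_zero h2 hq (c0 := 0) (c2 := adj P2 - P2) (c3 := 0) (c4 := 0) fun a => by
      have := hadj a
      rw [e a, e (-a), adj_add, adj_add, adj_one, adj_smul, adj_smul, neg_sq] at this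
      linear_combination (norm := module) this).2.1
  refine ⟨P1, eq_neg_of_add_eq_zero_left hskew, ?_, fun a => ?_⟩
  · have := q1.2.2.1
    rw [eP2, Matrix.mul_smul] at this
    exact (smul_eq_zero.1 this).resolve_left (inv_ne_zero h2)
  · rw [e, eP2, smul_smul, div_eq_mul_inv]

/-- An exponential of the two radical components. -/
def Rad (a b : Mat3 F) : Op F := 1 + N ⊗ₖ a + (N * N) ⊗ₖ b

theorem N_four : ((N : Mat3 F) * N) * (N * N) = 0 := by rw [Matrix.mul_assoc, N_cube, Matrix.mul_zero]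

theorem N_three : ((N : Mat3 F) * N) * N = 0 := by rw [Matrix.mul_assoc, N_cube]

theorem Rad_mul (a b c d : Mat3 F) : Rad a b * Rad c d = Rad (a + c) (b + d + a * c) := by
  simp only [Rad, Matrix.add_mul, Matrix.mul_add, Matrix.one_mul, Matrix.mul_one, ← mul_kronecker_mul, N_cube,
    N_three, N_four, zero_kronecker, kronecker_add]
  abel

theorem Rad_zero : Rad (0 : Mat3 F) 0 = 1 := by simp [Rad]

theorem adj2_Rad (a b : Mat3 F) : adj2 (Rad a b) = Rad (-adj a) (adj b) := by
  rw [Rad, Rad, adj2_add, adj2_add, adj2_kron, adj2_kron, adj_N, adj_NN, ← one_kronecker_one, adj2_kron, adj_one,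
    one_kronecker_one]
  congr 2
  ext i j
  simp [Matrix.kroneckerMap_apply]

theorem Rad_conj (C a b : Mat3 F) (hC : Iso C) :
    (1 : Mat3 F) ⊗ₖ C * Rad a b * 1 ⊗ₖ adj C = Rad (C * a * adj C) (C * b * adj C) := by
  simp only [Rad, Matrix.add_mul, Matrix.mul_add, Matrix.mul_one, ← mul_kronecker_mul, Matrix.one_mul, hC.mul_adj,
    one_kronecker_one]

theorem Rad_coeff {a b : Mat3 F} (h : Rad a b = 1) : a = 0 ∧ b = 0 := by
  constructor
  · ext k l
    simpa [Rad, N, N_sq, Matrix.one_apply] using congrFun (congrFun h (0, k)) (1, l)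
  · ext k l
    simpa [Rad, N, N_sq, Matrix.one_apply] using congrFun (congrFun h (0, k)) (2, l)

/-- Membership of a radical element. -/
def HasR (M : Subgroup (GL I9 F)) (a b : Mat3 F) : Prop := ∃ k ∈ M, k.1 = Rad a b

theorem HasR.mul {a b c d : Mat3 F} : HasR M a b → HasR M c d → HasR M (a + c) (b + d + a * c) :=
  fun ⟨k, hk, e⟩ ⟨k', hk', e'⟩ => ⟨k * k', M.mul_mem hk hk', by rw [Units.val_mul, e, e', Rad_mul]⟩

theorem HasR.inv {a b : Mat3 F} : HasR M a b → HasR M (-a) (a * a - b) := fun ⟨k, hk, e⟩ => by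
  refine ⟨k⁻¹, M.inv_mem hk, ?_⟩
  have h1 : k.1 * Rad (-a) (a * a - b) = 1 := by
    rw [e, Rad_mul, add_neg_cancel, Matrix.mul_neg, add_sub_cancel, add_neg_cancel, Rad_zero]
  calc k⁻¹.1 = k⁻¹.1 * (k.1 * Rad (-a) (a * a - b)) := by rw [h1, Matrix.mul_one]
    _ = Rad (-a) (a * a - b) := by rw [← Matrix.mul_assoc, ← Units.val_mul, inv_mul_cancel, Units.val_one, Matrix.one_mul]

theorem HasR.selfAdj (hM : Over M) {a b : Mat3 F} (h : HasR M a b) : adj a = a := by
  obtain ⟨k, hk, e⟩ := h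
  have := hM.iso k hk
  rw [Iso2, e, adj2_Rad, Rad_mul] at this
  exact neg_add_eq_zero.1 (Rad_coeff this).1

theorem HasR.skew (hM : Over M) {b : Mat3 F} (h : HasR M 0 b) : adj b = -b := by
  obtain ⟨k, hk, e⟩ := h
  have := hM.iso k hk
  rw [Iso2, e, adj2_Rad, Rad_mul, Matrix.mul_zero, add_zero] at this
  exact eq_neg_of_add_eq_zero_left (by simpa using (Rad_coeff this).2)

theorem HasR.conj (hM : Over M) {a b : Mat3 F} (h : HasR M a b) {C : Mat3 F} (hC : Iso C) (s : F) (h2 : (2 : F) ≠ 0) :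
    HasR M (C * uM s * adj C * a * adj (C * uM s * adj C)) (C * uM s * adj C * b * adj (C * uM s * adj C)) := by
  obtain ⟨k, hk, e⟩ := h
  obtain ⟨y, hy, ey⟩ := hM.right C hC s
  refine ⟨y * k * y⁻¹, M.mul_mem (M.mul_mem hy hk) (M.inv_mem hy), ?_⟩
  rw [Units.val_mul, Units.val_mul, (hM.iso y hy).inv_val, ey, adj2_kron, adj_one, e,
    Rad_conj _ _ _ ((hC.mul (iso_uM h2 s)).mul hC.adj')]

theorem HasR.conj_u (hM : Over M) {a b : Mat3 F} (h : HasR M a b) (s : F) (h2 : (2 : F) ≠ 0) :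
    HasR M (uM s * a * adj (uM s)) (uM s * b * adj (uM s)) := by
  simpa [adj_one] using h.conj hM iso_one s h2

theorem HasR.conj_l (hM : Over M) {a b : Mat3 F} (h : HasR M a b) (s : F) (h2 : (2 : F) ≠ 0) :
    HasR M (lM s * a * adj (lM s)) (lM s * b * adj (lM s)) := by
  have := h.conj hM iso_J3 (-s) h2
  rwa [lM_as_conj] at this

/-- Coefficients of the centraliser of `N ⊗ 1`. -/
theorem cent_form {g : GL I9 F} (hg : Iso2 g) {C0 C1 C2 : Mat3 F}
    (e : g.1 = 1 ⊗ₖ C0 + N ⊗ₖ C1 + (N * N) ⊗ₖ C2) :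
    Iso C0 ∧ g.1 = (1 : Mat3 F) ⊗ₖ C0 * Rad (adj C0 * C1) (adj C0 * C2) ∧ adj (adj C0 * C1) = adj C0 * C1 ∧
      adj (adj C0 * C2) + adj C0 * C2 = adj C0 * C1 * (adj C0 * C1) := by
  have h : adj2 g.1 * g.1 = 1 := hg
  have hA : adj2 g.1 = 1 ⊗ₖ adj C0 + N ⊗ₖ (-adj C1) + (N * N) ⊗ₖ adj C2 := by
    rw [e, adj2_add, adj2_add, adj2_kron, adj2_kron, adj2_kron, adj_one, adj_N, adj_NN]
    congr 2
    ext i j
    simp [Matrix.kroneckerMap_apply]
  rw [hA, e] at h
  simp only [Matrix.add_mul, Matrix.mul_add, ← mul_kronecker_mul, Matrix.one_mul, Matrix.mul_one, N_cube,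
    N_three, N_four, zero_kronecker, add_zero, Matrix.neg_mul] at h
  have hC0 : Iso C0 := by
    ext k l
    simpa [N, N_sq, Matrix.one_apply] using congrFun (congrFun h (0, k)) (0, l)
  have h1 : adj C0 * C1 - adj C1 * C0 = 0 := by
    ext k l
    have := congrFun (congrFun h (0, k)) (1, l)
    simp [N, N_sq, Matrix.one_apply] at this
    simp only [Matrix.sub_apply, Matrix.zero_apply]
    linear_combination this
  have h2 : adj C0 * C2 + adj C2 * C0 - adj C1 * C1 = 0 := by
    ext k l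
    have := congrFun (congrFun h (0, k)) (2, l)
    simp [N, N_sq, Matrix.one_apply] at this
    simp only [Matrix.add_apply, Matrix.sub_apply, Matrix.zero_apply]
    linear_combination -this
  have e1 : adj (adj C0 * C1) = adj C0 * C1 := by rw [adj_mul, adj_adj]; exact (sub_eq_zero.1 h1).symm
  refine ⟨hC0, ?_, e1, ?_⟩
  · rw [e, Rad, Matrix.mul_add, Matrix.mul_add, Matrix.mul_one, ← mul_kronecker_mul, ← mul_kronecker_mul,
      Matrix.one_mul, Matrix.one_mul, ← Matrix.mul_assoc, ← Matrix.mul_assoc, hC0.mul_adj, Matrix.one_mul,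
      Matrix.one_mul]
  · conv_rhs => arg 1; rw [← e1]
    rw [adj_mul, adj_mul, adj_adj, show adj C1 * C0 * (adj C0 * C1) = adj C1 * (C0 * adj C0) * C1 by
      simp only [Matrix.mul_assoc], hC0.mul_adj, Matrix.mul_one, add_comm]
    exact sub_eq_zero.1 h2

theorem fused_siegel (hM : Over M) (h2 : (2 : F) ≠ 0) (hq : 5 ≤ Fintype.card F) {g : GL I9 F} (hg : g ∈ M)
    (hgT : g ∉ TT) (hX : ∀ a, g⁻¹ * xA h2 a * g ∈ TT) (K₁ : Mat3 F) (hK₁ : adj K₁ = -K₁) : HasR M 0 K₁ := by
  classical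
  have := ringChar.charP F
  -- the conjugate group and its factors
  let h : F → GL I9 F := fun a => g⁻¹ * xA h2 (Multiplicative.ofAdd a) * g
  have hadd : ∀ a b, h (a + b) = h a * h b := fun a b => by
    simp only [h, ofAdd_add, map_mul]; group
  have hmem : ∀ a, h a ∈ M := fun a => M.mul_mem (M.mul_mem (M.inv_mem hg) (hM.xA_mem h2 _)) hg
  have hT : ∀ a, IsTens (h a) := fun a => by
    rw [show a = a / 2 + a / 2 by field_simp; ring, hadd]
    exact TT_sq (hX _)
  have hp : ∀ a, h a ^ ringChar F = 1 := fun a => by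
    have : ∀ n : ℕ, h a ^ n = h (n * a) := fun n => by
      induction n with
      | zero => simp [h]
      | succ n ih => rw [pow_succ, ih, ← hadd]; congr 1; push_cast; ring
    rw [this, CharP.cast_eq_zero, zero_mul]
    simp [h]
  choose C D hC hD hCD using fun a => exists_unip h2 (hM.iso _ (hmem a)) (hT a) (hp a)
  have hswap : ∀ a b, (C a * C b) ⊗ₖ (D a * D b) = (C b * C a) ⊗ₖ (D b * D a) := fun a b => by
    rw [mul_kronecker_mul, mul_kronecker_mul, ← hCD, ← hCD, ← Units.val_mul, ← Units.val_mul, ← hadd, ← hadd,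
      add_comm]
  have hcC : ∀ a b, C a * C b = C b * C a := fun a b => unip_comm (hC a) (hD a).1 (hC b) (hD b).1 (hswap a b)
  have hswap' : ∀ a b, (D a * D b) ⊗ₖ (C a * C b) = (D b * D a) ⊗ₖ (C b * C a) := fun a b => by
    rw [← sw_kron, hswap, sw_kron]
  have hcD : ∀ a b, D a * D b = D b * D a := fun a b => unip_comm (hD a) (hC a).1 (hD b) (hC b).1 (hswap' a b)
  have hhom : ∀ a b, C (a + b) = C a * C b ∧ D (a + b) = D a * D b := fun a b => by
    refine unip_unique (hC _) ⟨(hC a).1.mul (hC b).1, ?_⟩ ((hD a).1.mul (hD b).1) ?_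
    · rw [(show Commute (C a) (C b) from hcC a b).mul_pow, (hC a).2, (hC b).2, Matrix.one_mul]
    · rw [← hCD, hadd, Units.val_mul, hCD, hCD, mul_kronecker_mul]
  -- quadratic dependence
  set W0 := conjM g⁻¹ (N1 : Op F)
  have hexp : ∀ a, (h a).1 = 1 + a • W0 + a ^ 2 • ((2 : F)⁻¹ • (W0 * W0)) := fun a => by
    have : (h a).1 = conjM g⁻¹ (xA h2 (Multiplicative.ofAdd a)).1 := by
      rw [conjM_apply, inv_inv, Units.val_mul, Units.val_mul]
    rw [this, xA_expand, map_add, map_add, map_smul, map_smul, conjM_one_mat, conjM_mul_mat, smul_smul,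
      div_eq_mul_inv]
  obtain ⟨v, hv, hvfix⟩ := exists_common_fixed D (fun a => (hD a).2) hcD
  obtain ⟨u, hu, hufix⟩ := exists_common_fixed C (fun a => (hC a).2) hcC
  obtain ⟨_, _, _, eC⟩ := factor_quad (fun a => (h a).1) hexp C D hCD hv hvfix
  obtain ⟨_, _, _, eD⟩ := factor_quad (Z0 := sw 1) (Z1 := sw W0) (Z2 := sw ((2 : F)⁻¹ • (W0 * W0)))
    (fun a => sw (h a).1) (fun a => by
      show swL (h a).1 = swL 1 + a • swL W0 + a ^ 2 • swL _
      rw [hexp, map_add, map_add, map_smul, map_smul])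
    D C (fun a => by
      show sw (h a).1 = _
      rw [hCD, sw_kron]) hu hufix
  obtain ⟨P, hPs, hP3, eP⟩ := quad_hom h2 hq (fun a => (hC a).1) (fun a b => (hhom a b).1) eC
  obtain ⟨Q, hQs, hQ3, eQ⟩ := quad_hom h2 hq (fun a => (hD a).1) (fun a b => (hhom a b).2) eD
  have h44 : ((2 : F)⁻¹ * (2 : F)⁻¹) • ((P * P) ⊗ₖ (Q * Q)) = 0 :=
    (quartic_zero h2 hq (c0 := (0 : Op F)) (c1 := P ⊗ₖ 1 + 1 ⊗ₖ Q - W0)
      (c2 := (2 : F)⁻¹ • ((P * P) ⊗ₖ 1) + P ⊗ₖ Q + (2 : F)⁻¹ • (1 ⊗ₖ (Q * Q)) - (2 : F)⁻¹ • (W0 * W0))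
      (c3 := (2 : F)⁻¹ • (P ⊗ₖ (Q * Q) + (P * P) ⊗ₖ Q))
      fun a => by
        have e := (hCD a).symm.trans (hexp a)
        rw [eP, eQ] at e
        simp only [add_kronecker, kronecker_add, smul_kronecker, kronecker_smul, one_kronecker_one, smul_smul,
          div_eq_mul_inv] at e
        linear_combination (norm := module) e).2.2.2.2
  obtain ⟨R, tT, hRs, hR3, hRne, htT, htI, ht⟩ : ∃ (R : Mat3 F) (tT : GL I9 F), adj R = -R ∧ R * (R * R) = 0 ∧
      R ≠ 0 ∧ tT ∈ TT ∧ Iso2 tT ∧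
      ∀ a, (tT * h a * tT⁻¹).1 = (1 + a • R + (a ^ 2 / 2) • (R * R)) ⊗ₖ (1 : Mat3 F) := by
    have hne : ¬ (P = 0 ∧ Q = 0) := by
      rintro ⟨rfl, rfl⟩
      have h1 : (h 1).1 = (xA h2 (Multiplicative.ofAdd (0 : F))).1 := by rw [hCD, eP, eQ]; simp [uM_zero, xA_val]
      rw [ofAdd_zero, map_one] at h1
      have h1' : g⁻¹ * xA h2 (Multiplicative.ofAdd 1) * g = 1 := Units.ext h1
      have h1'' : (xA h2 (Multiplicative.ofAdd (1 : F))) = 1 := by
        have := congrArg (fun x => g * x * g⁻¹) h1'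
        simpa [mul_assoc] using this
      have := congrFun (congrFun (congrArg (fun x : GL I9 F => x.1) h1'') (0, 0)) (1, 0)
      simp [xA_val, uM, Matrix.one_apply] at this
    rcases kron_eq_zero ((smul_eq_zero.1 h44).resolve_left (mul_ne_zero (inv_ne_zero h2) (inv_ne_zero h2))) with hz | hz
    · have hP0 := skew_sq_zero h2 hPs hz
      subst hP0
      refine ⟨Q, W, hQs, hQ3, fun h0 => hne ⟨rfl, h0⟩, W_mem_TT, iso2_W, fun a => ?_⟩
      rw [W_inv, Units.val_mul, Units.val_mul, hCD, show (W : GL I9 F).1 = Wm from rfl, Wm_conj, sw_kron, eQ, eP]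
      simp
    · have hQ0 := skew_sq_zero h2 hQs hz
      subst hQ0
      refine ⟨P, 1, hPs, hP3, fun h0 => hne ⟨h0, rfl⟩, TT.one_mem, ?_, fun a => ?_⟩
      · rw [Iso2, Units.val_one, ← one_kronecker_one, adj2_kron, adj_one, ← mul_kronecker_mul, Matrix.one_mul]
      · rw [one_mul, inv_one, mul_one, hCD, eP, eQ]
        simp
  obtain ⟨C', hC', hCR⟩ := exists_iso_conj_N h2 hRs hR3 hRne
  let tC : GL I9 F := ⟨C' ⊗ₖ 1, adj C' ⊗ₖ 1,
    by rw [← mul_kronecker_mul, hC'.mul_adj, Matrix.one_mul, one_kronecker_one],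
    by rw [← mul_kronecker_mul, show adj C' * C' = 1 from hC', Matrix.one_mul, one_kronecker_one]⟩
  obtain ⟨τ, hτdef⟩ : ∃ τ : GL I9 F, τ = tC * tT := ⟨_, rfl⟩
  have hτT : τ ∈ TT := hτdef ▸ TT.mul_mem (Or.inl ⟨C', 1, rfl⟩) htT
  have hτI : Iso2 τ := by
    rw [hτdef]
    refine Iso2.mul ?_ htI
    show adj2 (C' ⊗ₖ (1 : Mat3 F)) * _ = 1
    rw [adj2_kron, adj_one, ← mul_kronecker_mul, show adj C' * C' = 1 from hC', Matrix.one_mul, one_kronecker_one]
  have hτ : ∀ a, τ * h a * τ⁻¹ = xA h2 (Multiplicative.ofAdd a) := fun a => Units.ext (by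
    rw [show τ * h a * τ⁻¹ = tC * (tT * h a * tT⁻¹) * tC⁻¹ by rw [hτdef]; group, Units.val_mul, Units.val_mul, ht,
      show (tC⁻¹).1 = adj C' ⊗ₖ 1 from rfl, show tC.1 = C' ⊗ₖ 1 from rfl, ← mul_kronecker_mul, ← mul_kronecker_mul,
      Matrix.one_mul, Matrix.one_mul, xA_val, uM_eq]
    congr 1
    have hsq : C' * (R * R) * adj C' = N * N := by
      rw [← hCR]
      calc C' * (R * R) * adj C' = C' * R * 1 * R * adj C' := by simp [Matrix.mul_assoc]
        _ = C' * R * (adj C' * C') * R * adj C' := by rw [show adj C' * C' = 1 from hC']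
        _ = C' * R * adj C' * (C' * R * adj C') := by simp only [Matrix.mul_assoc]
    simp only [Matrix.mul_add, Matrix.add_mul, Matrix.mul_smul, Matrix.smul_mul, Matrix.mul_one, hC'.mul_adj, hCR, hsq])
  obtain ⟨g2, hg2def⟩ : ∃ g2 : GL I9 F, g2 = g * τ⁻¹ := ⟨_, rfl⟩
  have hg2 : Iso2 g2 := hg2def ▸ (hM.iso g hg).mul hτI.inv
  have hcomm : ∀ a, g2 * xA h2 (Multiplicative.ofAdd a) = xA h2 (Multiplicative.ofAdd a) * g2 := fun a => by
    conv_lhs => rw [← hτ a, hg2def]
    simp only [h, hg2def]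
    group
  have hN1 : g2.1 * N1 = N1 * g2.1 := by
    have e1 := congrArg (fun x : GL I9 F => x.1) (hcomm 1)
    have e0 := congrArg (fun x : GL I9 F => x.1) (hcomm (-1))
    simp only [Units.val_mul, xA_expand, Matrix.mul_add, Matrix.add_mul, Matrix.mul_one, Matrix.one_mul,
      Matrix.mul_smul, Matrix.smul_mul, neg_sq] at e1 e0
    refine smul_right_injective (Op F) h2 ?_
    show (2 : F) • _ = (2 : F) • _
    linear_combination (norm := module) e1 - e0
  obtain ⟨C0, C1, C2, eg2⟩ := commutant_N1 hN1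
  obtain ⟨hC0, eg, hsa, hsb⟩ := cent_form hg2 eg2
  set a := adj C0 * C1
  set b := adj C0 * C2
  -- commutators with roots of the second factor
  have hbr : ∀ (E : Mat3 F), Iso E → ∀ s, HasR M
      (C0 * (a - E * uM s * adj E * a * adj (E * uM s * adj E)) * adj C0)
      (C0 * (b + (E * uM s * adj E * (a * a - b) * adj (E * uM s * adj E)) -
        a * (E * uM s * adj E * a * adj (E * uM s * adj E))) * adj C0) := by
    intro E hE s
    set y := E * uM s * adj E with hy
    have hyI : Iso y := (hE.mul (iso_uM h2 s)).mul hE.adj'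
    have hzm : ∃ z ∈ M, z.1 = τ⁻¹.1 * ((1 : Mat3 F) ⊗ₖ y) * τ.1 := by
      have hτI' := hτI.inv_val
      rcases hτT with ⟨A₀, B₀, e₀⟩ | ⟨A₀, B₀, e₀⟩
      · obtain ⟨A, B, hA, hB, e⟩ := iso_factors h2 hτI e₀
        obtain ⟨z, hz, ez⟩ := hM.right (adj B * E) (hB.adj'.mul hE) s
        refine ⟨z, hz, ?_⟩
        rw [ez, hτI', e, adj2_kron, ← mul_kronecker_mul, ← mul_kronecker_mul, Matrix.mul_one,
          show adj A * A = 1 from hA, hy, adj_mul, adj_adj]
        simp only [Matrix.mul_assoc]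
      · obtain ⟨A, B, hA, hB, e⟩ := iso_factors h2 (hτI.mul iso2_W) e₀
        obtain ⟨z, hz, ez⟩ := hM.left (adj B * E) (hB.adj'.mul hE) s
        refine ⟨z, hz, ?_⟩
        have eτ : τ.1 = A ⊗ₖ B * Wm := by
          rw [← e]
          show τ.1 = τ.1 * Wm * Wm
          rw [Matrix.mul_assoc, Wm_mul_self, Matrix.mul_one]
        have eW : adj2 (Wm : Op F) = Wm := ((iso2_W (F := F)).inv_val).symm
        rw [ez, hτI', eτ, adj2_mul, eW, adj2_kron]
        rw [show Wm * (adj A ⊗ₖ adj B) * (1 : Mat3 F) ⊗ₖ y * (A ⊗ₖ B * Wm) =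
          Wm * ((adj A ⊗ₖ adj B) * 1 ⊗ₖ y * A ⊗ₖ B) * Wm by simp only [Matrix.mul_assoc], Wm_conj,
          ← mul_kronecker_mul, ← mul_kronecker_mul, Matrix.mul_one, show adj A * A = 1 from hA, sw_kron, hy, adj_mul,
          adj_adj]
        simp only [Matrix.mul_assoc]
    obtain ⟨z, hz, ez⟩ := hzm
    obtain ⟨w, hw, ew⟩ := hM.right (C0 * E) (hC0.mul hE) (-s)
    refine ⟨g * z * g⁻¹ * w, M.mul_mem (M.mul_mem (M.mul_mem hg hz) (M.inv_mem hg)) hw, ?_⟩
    have e1 : (g * z * g⁻¹).1 = g2.1 * ((1 : Mat3 F) ⊗ₖ y) * g2⁻¹.1 := by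
      rw [Units.val_mul, Units.val_mul, ez, hg2def, show (g * τ⁻¹)⁻¹ = τ * g⁻¹ by group,
        Units.val_mul, Units.val_mul]
      simp only [Matrix.mul_assoc]
    have ew' : w.1 = (1 : Mat3 F) ⊗ₖ (C0 * adj y * adj C0) := by
      rw [ew, hy, adj_mul, adj_mul, adj_mul, adj_adj, adj_uM]
      simp only [Matrix.mul_assoc]
    rw [Units.val_mul, e1, ew', hg2.inv_val, eg, adj2_mul, adj2_kron, adj_one, adj2_Rad]
    have er : Rad (-adj a) (adj b) = Rad (-a) (a * a - b) := by
      rw [hsa, eq_sub_of_add_eq hsb]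
    rw [er, ← Rad_conj _ _ _ hC0]
    have k2 : (1 : Mat3 F) ⊗ₖ adj C0 * (1 : Mat3 F) ⊗ₖ (C0 * adj y * adj C0) = 1 ⊗ₖ adj y * 1 ⊗ₖ adj C0 := by
      rw [← mul_kronecker_mul, ← mul_kronecker_mul, Matrix.one_mul, ← Matrix.mul_assoc, ← Matrix.mul_assoc,
        show adj C0 * C0 = 1 from hC0, Matrix.one_mul]
    calc (1 : Mat3 F) ⊗ₖ C0 * Rad a b * 1 ⊗ₖ y * (Rad (-a) (a * a - b) * 1 ⊗ₖ adj C0) * 1 ⊗ₖ (C0 * adj y * adj C0)
        = 1 ⊗ₖ C0 * Rad a b * 1 ⊗ₖ y * Rad (-a) (a * a - b) * ((1 : Mat3 F) ⊗ₖ adj C0 * 1 ⊗ₖ (C0 * adj y * adj C0)) := by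
          simp only [Matrix.mul_assoc]
      _ = 1 ⊗ₖ C0 * (Rad a b * (1 ⊗ₖ y * Rad (-a) (a * a - b) * 1 ⊗ₖ adj y)) * 1 ⊗ₖ adj C0 := by
          rw [k2]; simp only [Matrix.mul_assoc]
      _ = _ := by
          rw [Rad_conj _ _ _ hyI, Rad_mul, Matrix.mul_neg, Matrix.neg_mul, ← sub_eq_add_neg, Matrix.mul_neg,
            ← sub_eq_add_neg]
  -- a non-zero skew parameter
  obtain ⟨K, hK, hK0⟩ : ∃ K, HasR M 0 K ∧ K ≠ 0 := by
    have hfinish : ∀ a' b', HasR M a' b' → (∀ c : F, a' ≠ c • 1) → ∃ K, HasR M 0 K ∧ K ≠ 0 := by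
      intro a' b' hab hns
      have hclosed : ∀ x ∈ {x | ∃ y, HasR M x y}, ∀ s, Du s x ∈ {x | ∃ y, HasR M x y} := fun x ⟨y, hxy⟩ s => by
        have := hxy.mul (hxy.inv.conj_u hM s h2)
        rw [Matrix.mul_neg, Matrix.neg_mul, ← sub_eq_add_neg] at this
        exact ⟨_, this⟩
      obtain ⟨c, β, hβ, y, hy⟩ := exists_top h2 hq (S := {x | ∃ y, HasR M x y}) (fun x ⟨y, hxy⟩ => hxy.selfAdj hM)
        hclosed ⟨b', hab⟩ hns
      set A := c • (1 : Mat3 F) + β • (N * N)
      obtain ⟨y', hy'⟩ : ∃ y', HasR M (lM 1 * A * lM (-1)) y' := by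
        have := hy.conj_l hM 1 h2
        rw [adj_lM (1 : F)] at this
        exact ⟨_, this⟩
      set B := lM 1 * A * lM (-1)
      refine ⟨A * B - B * A, ?_, sub_ne_zero.2 (top_not_comm h2 hβ)⟩
      have := (hy.mul hy').mul (hy'.mul hy).inv
      convert this using 1
      · abel
      · simp only [Matrix.add_mul, Matrix.mul_add, Matrix.mul_neg, Matrix.neg_mul, neg_add]
        abel
    by_cases hsc : ∀ c : F, a ≠ c • 1
    · obtain ⟨E, hE, s, hs⟩ : ∃ E, Iso E ∧ ∃ s, ∀ c : F,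
          C0 * (a - E * uM s * adj E * a * adj (E * uM s * adj E)) * adj C0 ≠ c • 1 := by
        have hback : ∀ X : Mat3 F, ∀ c : F, C0 * X * adj C0 = c • 1 → X = c • 1 := fun X c e => by
          calc X = adj C0 * (C0 * X * adj C0) * C0 := by
                simp only [Matrix.mul_assoc]
                rw [show adj C0 * C0 = 1 from hC0, Matrix.mul_one, ← Matrix.mul_assoc, show adj C0 * C0 = 1 from hC0,
                  Matrix.one_mul]
            _ = c • 1 := by rw [e, Matrix.mul_smul, Matrix.mul_one, Matrix.smul_mul, show adj C0 * C0 = 1 from hC0]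
        by_contra! hall
        obtain ⟨c, β, ea⟩ := isTop_of_Du_scalar h2 hq hsa fun s => by
          obtain ⟨c, hc⟩ := hall 1 iso_one s
          exact ⟨c, by simpa [Du, adj_one] using hback _ _ hc⟩
        have hJa : adj (J3 * a * adj J3) = J3 * a * adj J3 := by simp only [adj_mul, adj_adj, hsa, Matrix.mul_assoc]
        obtain ⟨c', β', ea'⟩ := isTop_of_Du_scalar h2 hq hJa fun s => by
          obtain ⟨c, hc⟩ := hall J3 iso_J3 s
          refine ⟨c, ?_⟩
          have := congrArg (fun X => J3 * X * adj J3) (hback _ _ hc)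
          simp only [Matrix.mul_smul, Matrix.smul_mul, Matrix.mul_one, (iso_J3 (F := F)).mul_adj] at this
          rw [← this, Du]
          simp only [adj_mul, adj_adj, Matrix.mul_sub, Matrix.sub_mul]
          have hJ : adj (J3 : Mat3 F) = J3 := by
            rw [adj_eq]; ext i j; fin_cases i <;> fin_cases j <;> simp [J3]
          simp only [hJ, ← Matrix.mul_assoc, J3_mul_self, Matrix.one_mul]
          simp only [Matrix.mul_assoc, J3_mul_self, Matrix.mul_one]
        rw [ea] at ea'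
        have e02 := congrFun (congrFun ea' 2) 0
        rw [adj_eq] at e02
        simp [J3, N_sq, Matrix.mul_apply, Matrix.vecMul, dotProduct, Fin.sum_univ_three] at e02
        exact hsc c (by rw [ea, e02, zero_smul, add_zero])
      exact hfinish _ _ (hbr E hE s) hs
    · push Not at hsc
      obtain ⟨α, hα⟩ := hsc
      rw [hα, adj_smul, adj_one] at hsa
      set K0 := b - (α ^ 2 / 2) • (1 : Mat3 F) with hK0def
      have hK0s : adj K0 = -K0 := by
        rw [hα, smul_mul_smul_comm, Matrix.one_mul] at hsb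
        rw [hK0def, adj_sub, adj_smul, adj_one]
        rw [eq_sub_of_add_eq hsb]
        match_scalars <;> field_simp <;> ring
      have hK0ne : K0 ≠ 0 := fun h0 => by
        refine hgT ?_
        have : g2 ∈ TT := Or.inl ⟨uM α, C0, by
          rw [eg, hα, sub_eq_zero.1 h0, Rad, uM_eq, kronecker_smul, kronecker_smul, ← smul_kronecker, ← smul_kronecker]
          conv_lhs => rw [← one_kronecker_one, ← add_kronecker, ← add_kronecker, ← mul_kronecker_mul, Matrix.one_mul,
            Matrix.mul_one]⟩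
        rw [show g = g2 * τ by rw [hg2def, inv_mul_cancel_right]]
        exact TT.mul_mem this hτT
      obtain ⟨E, hE, s, hs⟩ : ∃ E, Iso E ∧ ∃ s, K0 - E * uM s * adj E * K0 * adj (E * uM s * adj E) ≠ 0 := by
        obtain ⟨p, r, q, eK⟩ : ∃ p r q : F, K0 = p • H + r • N + q • Nl := ⟨_, _, _, skew_eq h2 hK0s⟩
        by_contra! hall
        have h1 := hall 1 iso_one 1
        rw [Matrix.one_mul, adj_one, Matrix.mul_one, eK, ← Du, Du_skew h2] at h1
        have h00 := congrFun (congrFun h1 0) 0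
        have h01 := congrFun (congrFun h1 0) 1
        simp [H, N] at h00 h01
        subst h00
        simp at h01
        subst h01
        have h2' := congrArg (fun X => J3 * X * adj J3) (hall J3 iso_J3 1)
        have hJ : adj (J3 : Mat3 F) = J3 := by
          rw [adj_eq]; ext i j; fin_cases i <;> fin_cases j <;> simp [J3]
        have eJ : J3 * K0 * J3 = (-r) • (Nl : Mat3 F) := by
          rw [eK]; ext i j
          fin_cases i <;> fin_cases j <;> simp [J3, N, Nl, Matrix.mul_apply, Fin.sum_univ_three]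
        simp only [adj_mul, adj_adj, hJ, Matrix.mul_sub, Matrix.sub_mul, Matrix.mul_zero, Matrix.zero_mul,
          ← Matrix.mul_assoc, J3_mul_self, Matrix.one_mul] at h2'
        simp only [Matrix.mul_assoc, J3_mul_self, Matrix.mul_one] at h2'
        have h3 : Du 1 ((0 : F) • H + (0 : F) • N + (-r) • (Nl : Mat3 F)) = 0 := by
          rw [zero_smul, zero_smul, zero_add, zero_add, Du, ← eJ]
          simpa [Matrix.mul_assoc] using h2'
        rw [Du_skew h2] at h3
        have := congrFun (congrFun h3 0) 0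
        simp [H, N] at this
        subst this
        simp at eK
        exact hK0ne eK
      have hh := hbr E hE s
      set y := E * uM s * adj E
      have hyI : y * adj y = 1 := ((hE.mul (iso_uM h2 s)).mul hE.adj').mul_adj
      have e0 : y * a * adj y = a := by rw [hα, Matrix.mul_smul, Matrix.mul_one, Matrix.smul_mul, hyI]
      rw [e0, sub_self, Matrix.mul_zero, Matrix.zero_mul] at hh
      refine ⟨_, hh, fun hz => hs ?_⟩
      have hz' := congrArg (fun X => adj C0 * X * C0) hz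
      simp only [Matrix.mul_zero, Matrix.zero_mul, ← Matrix.mul_assoc, show adj C0 * C0 = 1 from hC0,
        Matrix.one_mul] at hz'
      rw [Matrix.mul_assoc _ (adj C0), show adj C0 * C0 = 1 from hC0, Matrix.mul_one] at hz'
      rw [← hz', hK0def, hα]
      simp only [Matrix.mul_sub, Matrix.sub_mul, Matrix.mul_smul, Matrix.smul_mul, Matrix.mul_one, hyI, smul_smul]
      module
  have hKall := skew_all h2 (S := {K | HasR M 0 K})
    (fun x hx y hy => by
      show HasR M 0 _
      have := (show HasR M 0 x from hx).mul (show HasR M 0 y from hy)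
      simpa using this)
    (fun x hx => by
      show HasR M 0 _
      simpa using (show HasR M 0 x from hx).inv)
    (fun s x hx => by
      show HasR M 0 _
      simpa using (show HasR M 0 x from hx).conj_u hM s h2)
    (fun s x hx => by
      show HasR M 0 _
      simpa using (show HasR M 0 x from hx).conj_l hM s h2)
    (hK.skew hM) hK hK0
  exact hKall K₁ hK₁

/-- An overgroup outside the stabiliser contains a full Siegel group with pure parameters. -/
theorem siegel_or_siegel (hM : Over M) (h2 : (2 : F) ≠ 0) (hq : 5 ≤ Fintype.card F) {g : GL I9 F} (hg : g ∈ M)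
    (hgT : g ∉ TT) : (∀ K : Mat3 F, adj K = -K → HasR M 0 K) ∨
      ∀ K : Mat3 F, adj K = -K → HasR (M.map (MulAut.conj (W : GL I9 F)).toMonoidHom) 0 K := by
  classical
  by_cases hA : NoFuse M (xA h2)
  · by_cases hB : NoFuse M (xB h2)
    · exact absurd (le_of_noFuse hM h2 hq hA hB hg) hgT
    · unfold NoFuse at hB; push Not at hB
      obtain ⟨k, hk, hkT, hX⟩ := hB
      refine Or.inr (fused_siegel hM.conj_W h2 hq (Subgroup.mem_map_of_mem _ hk) (fun h => hkT ?_) fun a => ?_)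
      · have := TT.mul_mem (TT.mul_mem W_mem_TT h) W_mem_TT
        simpa [MulAut.conj_apply, W_inv, mul_assoc, ← mul_assoc W W, W_mul_W] using this
      · have := TT.mul_mem (TT.mul_mem W_mem_TT (hX a)) W_mem_TT
        simpa [xB, MulAut.conj_apply, W_inv, mul_assoc, ← mul_assoc W W, W_mul_W] using this
  · unfold NoFuse at hA; push Not at hA
    obtain ⟨k, hk, hkT, hX⟩ := hA
    exact Or.inl (fused_siegel hM h2 hq hk hkT hX)

end CfsgLib.Classical.TensorSquareO3
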