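import Cfsg.Agent.Lib.Classical.TensorSquareO3.Climb
import Cfsg.Agent.Lib.Classical.TensorMaxO.Matrix

/-!
# The stabiliser of the tensor square of a three-dimensional orthogonal space is maximal in `Ω`
-/

set_option autoImplicit false
set_option linter.unusedSectionVars false
set_option linter.style.longLine false
set_option backward.isDefEq.respectTransparency false

namespace CfsgLib.Classical.TensorSquareO3

open Matrix Module QuadraticMap CfsgLib.Orth CfsgLib.Classical
open scoped Kronecker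

variable {F : Type*} [Field F] [Fintype F]

/-- The index bijection. -/
def pairing : (Fin 2 → Fin 3) ≃ I9 := finTwoArrowEquiv (Fin 3)

theorem map_wreath :
    (Cfsg.Geo.tensorWreathStandard 3 2 F).map (Cfsg.Geo.glReindex pairing).toMonoidHom = TT := by
  have val : ∀ (g : GL (Fin 2 → Fin 3) F) (x y : I9), (Cfsg.Geo.glReindex pairing g).1 x y =
      g.1 (pairing.symm x) (pairing.symm y) := fun g x y => rfl
  refine le_antisymm ?_ ?_
  · rw [Cfsg.Geo.tensorWreathStandard, MonoidHom.map_closure, Subgroup.closure_le]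
    rintro _ ⟨g, hg, rfl⟩
    rcases hg with ⟨gs, hgs⟩ | ⟨σ, hσ⟩
    · refine Or.inl ⟨(gs 0).1, (gs 1).1, Matrix.ext fun x y => ?_⟩
      show (Cfsg.Geo.glReindex pairing g).1 x y = _
      rw [val, hgs, Fin.prod_univ_two]
      rfl
    · have hs : σ = 1 ∨ σ = Equiv.swap 0 1 := (by decide : ∀ τ : Equiv.Perm (Fin 2), τ = 1 ∨ τ = Equiv.swap 0 1) σ
      rcases hs with rfl | rfl
      · refine Or.inl ⟨1, 1, Matrix.ext fun x y => ?_⟩
        show (Cfsg.Geo.glReindex pairing g).1 x y = _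
        rw [val, hσ, one_kronecker_one, Matrix.one_apply]
        simp [eq_comm]
      · refine Or.inr ⟨1, 1, ?_⟩
        rw [one_kronecker_one, Units.val_mul]
        show (Cfsg.Geo.glReindex pairing g).1 * Wm = 1
        rw [mul_Wm]
        refine Matrix.ext fun x y => ?_
        rw [Matrix.submatrix_apply, id, val, hσ, Matrix.one_apply]
        refine if_congr ?_ rfl rfl
        simp [pairing, funext_iff, Fin.forall_fin_two, Prod.ext_iff, eq_comm, and_comm]
  · intro g hg
    have tens : ∀ h : GL I9 F, IsTens h →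
        h ∈ (Cfsg.Geo.tensorWreathStandard 3 2 F).map (Cfsg.Geo.glReindex pairing).toMonoidHom := by
      rintro h ⟨A, B, e⟩
      have hd : A.det ≠ 0 ∧ B.det ≠ 0 := by
        have := (Matrix.GeneralLinearGroup.det h).ne_zero
        rw [Matrix.GeneralLinearGroup.val_det_apply, e, det_kronecker] at this
        exact ⟨fun h => this (by simp [h]), fun h => this (by simp [h])⟩
      refine ⟨(Cfsg.Geo.glReindex pairing).symm h, Subgroup.subset_closure (Or.inl
        ⟨![GeneralLinearGroup.mkOfDetNeZero A hd.1, GeneralLinearGroup.mkOfDetNeZero B hd.2], fun x y => ?_⟩),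
        MulEquiv.apply_symm_apply _ h⟩
      show h.1 (pairing x) (pairing y) = _
      rw [e, Fin.prod_univ_two]
      rfl
    rcases hg with hg | hg
    · exact tens g hg
    · rw [show g = g * W * W by rw [mul_assoc, W_mul_W, mul_one]]
      refine mul_mem (tens _ hg) ⟨(Cfsg.Geo.glReindex pairing).symm W, Subgroup.subset_closure (Or.inr
        ⟨Equiv.swap 0 1, fun x y => ?_⟩), MulEquiv.apply_symm_apply _ _⟩
      show (Wm : Op F) (pairing x) (pairing y) = _
      simp [Wm, Matrix.one_apply, pairing, funext_iff, Fin.forall_fin_two, eq_comm]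

/-- A nondegenerate symmetric form in dimension three is a multiple of the antidiagonal one. -/
theorem exists_basis (h2 : (2 : F) ≠ 0) {f₁ : (Fin 3 → F) → (Fin 3 → F) → F} (hf : Cfsg.Geo.IsSymmetricForm f₁) :
    ∃ (C : Mat3 F) (ν : F), ν ≠ 0 ∧ Cᵀ * Cfsg.Geo.gramMatrix f₁ * C = ν • J3 := by
  set q := TensorMaxO.quadSym 1 hf
  have hpol : ∀ x y, polar q x y = f₁ x y := fun x y => by rw [TensorMaxO.polar_quadSym h2, one_mul]
  have hnd : (polarBilin q).Nondegenerate := TensorMaxO.nondeg_quadSym h2 one_ne_zero hf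
  obtain ⟨u, hu0, hu⟩ := CfsgLib.Orth.exists_singular hnd (by rw [finrank_fin_fun])
  obtain ⟨n, hn, hun⟩ := TensorMaxO.exists_partner hnd hu hu0
  obtain ⟨o, ho, ho0⟩ := Submodule.exists_mem_ne_zero_of_ne_bot
    (p := LinearMap.ker (polarBilin q u) ⊓ LinearMap.ker (polarBilin q n)) (fun h => by
      have h1 := Submodule.finrank_sup_add_finrank_inf_eq (LinearMap.ker (polarBilin q u))
        (LinearMap.ker (polarBilin q n))
      have h2' := TensorMaxO.finrank_kerPolar (Q := q) u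
      have h3' := TensorMaxO.finrank_kerPolar (Q := q) n
      have h4 := Submodule.finrank_le (LinearMap.ker (polarBilin q u) ⊔ LinearMap.ker (polarBilin q n))
      rw [h, finrank_bot] at h1
      rw [finrank_fin_fun] at *
      omega)
  rw [Submodule.mem_inf, TensorMaxO.mem_ker_polar, TensorMaxO.mem_ker_polar] at ho
  set ν := f₁ o o with hν
  have huu : polar q u u = 0 := by rw [polar_self', hu, mul_zero]
  have hnn : polar q n n = 0 := by rw [polar_self', hn, mul_zero]
  have hν0 : ν ≠ 0 := by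
    intro h0
    refine ho0 (hnd.1 o fun y => ?_)
    show polar q o y = 0
    have hli : LinearIndependent F ![u, o, n] := by
      rw [Fintype.linearIndependent_iff]
      intro g hg
      have a := congrArg (polar q u) hg
      have b := congrArg (polar q n) hg
      simp only [Fin.sum_univ_three, polar_add_right, polar_smul_r', Matrix.cons_val_zero, Matrix.cons_val_one,
        Matrix.cons_val_two, Matrix.tail_cons, Matrix.head_cons, huu, hnn, hun, ho.1, ho.2,
        polar_comm q n u, polar_zero_right, mul_zero, mul_one, add_zero, zero_add] at a b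
      intro i
      fin_cases i
      · exact b
      · have c : g 1 • o = 0 := by simpa [Fin.sum_univ_three, a, b] using hg
        exact (smul_eq_zero.1 c).resolve_right ho0
      · exact a
    have hmem : y ∈ Submodule.span F (Set.range ![u, o, n]) := by
      rw [hli.span_eq_top_of_card_eq_finrank (by simp)]; trivial
    obtain ⟨g, rfl⟩ := (Submodule.mem_span_range_iff_exists_fun F).1 hmem
    simp [Fin.sum_univ_three, polar_add_right, polar_smul_r', polar_comm q o u, polar_comm q o n, ho.1, ho.2,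
      hpol o o, ← hν, h0]
  refine ⟨(Matrix.of ![ν • u, o, n])ᵀ, ν, hν0, Matrix.ext fun i j => ?_⟩
  have key : ∀ x y : Fin 3 → F, x ⬝ᵥ Cfsg.Geo.gramMatrix f₁ *ᵥ y = f₁ x y := fun x y => by
    rw [← TensorNonMax.gram_expand (τ := id) hf.bilinear.add_left hf.bilinear.smul_left hf.bilinear.add_right
      (fun t v w => hf.bilinear.smul_right t v w) x y]
    simp [Cfsg.Geo.formOfGram, dotProduct, Matrix.mulVec, Finset.mul_sum, mul_assoc]
  have hent : ∀ R G : Mat3 F, (Rᵀᵀ * G * Rᵀ) i j = R i ⬝ᵥ G *ᵥ R j := fun R G => by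
    rw [transpose_transpose, Matrix.mul_assoc, Matrix.mul_apply]
    simp [dotProduct, Matrix.mulVec, Matrix.mul_apply]
  rw [hent, key, ← hpol, Matrix.smul_apply, smul_eq_mul]
  show polar q (![ν • u, o, n] i) (![ν • u, o, n] j) = _
  have e1 : polar q n u = 1 := by rw [polar_comm, hun]
  fin_cases i <;> fin_cases j <;>
    simp [J3, Matrix.of_apply, polar_smul_r', polar_smul_l', QuadraticMap.map_smul, hu, hn, huu, hnn, hun, e1, ho.1, ho.2, polar_comm q o u, polar_comm q o n, hpol o o,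
      ← hν]

variable {ι : Type} [Fintype ι] [DecidableEq ι]

section Model

variable {Q : QuadraticForm F (I9 → F)}
  (hpol : ∀ x y, polar Q x y = x ⬝ᵥ ((J3 : Mat3 F) ⊗ₖ (J3 : Mat3 F)) *ᵥ y)

/-- The matrix of an isometry. -/
noncomputable def mat9 (Q : QuadraticForm F (I9 → F)) : orthGroup Q →* GL I9 F := orthToGL Q fun _ => rfl

theorem mat9_mulVec (g : orthGroup Q) (x : I9 → F) : (mat9 Q g).1 *ᵥ x = g.1 x := by
  rw [← Matrix.toLin'_apply, mat9, toLin'_orthToGL]
  rfl

include hpol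

theorem iso_mat9 (g : orthGroup Q) : Iso2 (mat9 Q g) := by
  set G := (mat9 Q g).1
  have hG : Gᵀ * (J3 ⊗ₖ J3) * G = J3 ⊗ₖ J3 := by
    refine Matrix.ext fun i j => ?_
    have h := (hpol (g.1 (Pi.single i 1)) (g.1 (Pi.single j 1))).symm.trans
      ((CfsgLib.Orth.polar_isom g _ _).trans (hpol _ _))
    rw [← mat9_mulVec, ← mat9_mulVec, ← vecMul_transpose, Matrix.dotProduct_mulVec, vecMul_vecMul,
      ← dotProduct_mulVec, Matrix.mulVec_mulVec] at h
    simpa [G, Matrix.mul_assoc] using h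
  show adj2 G * G = 1
  rw [adj2, Matrix.mul_assoc, Matrix.mul_assoc, ← Matrix.mul_assoc Gᵀ, hG, J9_mul_self]

theorem exists_mat9 (h2 : (2 : F) ≠ 0) {g : GL I9 F} (hg : Iso2 g) : ∃ k : orthGroup Q, mat9 Q k = g := by
  have hG : g.1ᵀ * (J3 ⊗ₖ J3) * g.1 = J3 ⊗ₖ J3 := by
    have h := congrArg (((J3 : Mat3 F) ⊗ₖ (J3 : Mat3 F)) * ·) (show adj2 g.1 * g.1 = 1 from hg)
    simpa [adj2, ← Matrix.mul_assoc, J9_mul_self] using h
  let L : (I9 → F) ≃ₗ[F] (I9 → F) :=
    LinearEquiv.ofLinearMap (Matrix.toLin' g.1) (Matrix.toLin' g⁻¹.1)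
      (by rw [← Matrix.toLin'_mul, ← Units.val_mul, mul_inv_cancel, Units.val_one, Matrix.toLin'_one])
      (by rw [← Matrix.toLin'_mul, ← Units.val_mul, inv_mul_cancel, Units.val_one, Matrix.toLin'_one])
  have hL : L ∈ orthGroup Q := fun v => by
    refine mul_left_cancel₀ h2 ?_
    rw [← polar_self', ← polar_self', hpol, hpol]
    show (g.1 *ᵥ v) ⬝ᵥ _ *ᵥ (g.1 *ᵥ v) = _
    rw [Matrix.mulVec_mulVec, ← vecMul_transpose, ← dotProduct_mulVec, Matrix.mulVec_mulVec, ← Matrix.mul_assoc, hG]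
  exact ⟨⟨L, hL⟩, Units.ext (Matrix.ext_iff_mulVec.2 fun x => mat9_mulVec ⟨L, hL⟩ x)⟩

theorem exists_root (h2 : (2 : F) ≠ 0) {g : GL I9 F} (hg : Iso2 g) :
    ∃ k ∈ commutator (orthGroup Q), mat9 Q k = g * g := by
  obtain ⟨k, hk⟩ := exists_mat9 hpol h2 hg
  exact ⟨k * k, TensorMaxO.sq_mem_commutator (nondeg9 hpol) h2 k, by rw [map_mul, hk]⟩

theorem omega_le_of_HasR (h2 : (2 : F) ≠ 0) {M : Subgroup (orthGroup Q)} (hM : Over (M.map (mat9 Q)))
    (hR : ∀ K : Mat3 F, adj K = -K → HasR (M.map (mat9 Q)) 0 K) : commutator (orthGroup Q) ≤ M := by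
  refine omega_le_of_rad hpol h2 (fun C hC a => ?_) (fun C hC a => ?_) fun K hK => ?_
  · obtain ⟨_, ⟨k, hk, rfl⟩, e⟩ := hM.left C hC a
    exact ⟨k, hk, fun x => by rw [← e, mat9_mulVec]⟩
  · obtain ⟨_, ⟨k, hk, rfl⟩, e⟩ := hM.right C hC a
    exact ⟨k, hk, fun x => by rw [← e, mat9_mulVec]⟩
  · obtain ⟨_, ⟨k, hk, rfl⟩, e⟩ := hR K hK
    exact ⟨k, hk, fun x => by rw [← e, mat9_mulVec]⟩

/-- An overgroup of the stabiliser with a further element contains `Ω`. -/
theorem omega_le_of_not_mem (h2 : (2 : F) ≠ 0) (hq : 5 ≤ Fintype.card F) {M : Subgroup (orthGroup Q)}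
    (hM : ∀ k ∈ commutator (orthGroup Q), mat9 Q k ∈ TT → k ∈ M) {g : orthGroup Q} (hg : g ∈ M)
    (hgT : mat9 Q g ∉ TT) : commutator (orthGroup Q) ≤ M := by
  have hO : Over (M.map (mat9 Q)) := by
    refine ⟨?_, fun C hC a => ?_, fun C hC a => ?_⟩
    · rintro _ ⟨k, -, rfl⟩
      exact iso_mat9 hpol k
    all_goals
      have hC' : Iso (C * uM (a / 2) * adj C) := (hC.mul (iso_uM h2 _)).mul hC.adj'
      have hsq : C * uM (a / 2) * adj C * (C * uM (a / 2) * adj C) = C * uM a * adj C := by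
        rw [show C * uM (a / 2) * adj C * (C * uM (a / 2) * adj C) = C * uM (a / 2) * (adj C * C) * uM (a / 2) * adj C
          by simp only [Matrix.mul_assoc], show adj C * C = 1 from hC, Matrix.mul_one, Matrix.mul_assoc C, uM_add h2,
          show a / 2 + a / 2 = a by field_simp; ring]
    · let r : GL I9 F := ⟨(C * uM (a / 2) * adj C) ⊗ₖ 1, adj (C * uM (a / 2) * adj C) ⊗ₖ 1,
        by rw [← mul_kronecker_mul, hC'.mul_adj, Matrix.one_mul, one_kronecker_one],
        by rw [← mul_kronecker_mul, show adj _ * _ = 1 from hC', Matrix.one_mul, one_kronecker_one]⟩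
      have hr : Iso2 r := by
        show adj2 _ * _ = 1
        rw [adj2_kron, adj_one, ← mul_kronecker_mul, show adj _ * _ = 1 from hC', Matrix.one_mul, one_kronecker_one]
      have hv : (r * r).1 = (C * uM a * adj C) ⊗ₖ 1 := by
        rw [Units.val_mul, ← mul_kronecker_mul, hsq, Matrix.one_mul]
      obtain ⟨k, hk, e⟩ := exists_root hpol h2 hr
      exact ⟨r * r, ⟨k, hM k hk (e ▸ Or.inl ⟨_, _, hv⟩), e⟩, hv⟩
    · let r : GL I9 F := ⟨1 ⊗ₖ (C * uM (a / 2) * adj C), 1 ⊗ₖ adj (C * uM (a / 2) * adj C),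
        by rw [← mul_kronecker_mul, hC'.mul_adj, Matrix.one_mul, one_kronecker_one],
        by rw [← mul_kronecker_mul, show adj _ * _ = 1 from hC', Matrix.one_mul, one_kronecker_one]⟩
      have hr : Iso2 r := by
        show adj2 _ * _ = 1
        rw [adj2_kron, adj_one, ← mul_kronecker_mul, show adj _ * _ = 1 from hC', Matrix.one_mul, one_kronecker_one]
      have hv : (r * r).1 = 1 ⊗ₖ (C * uM a * adj C) := by
        rw [Units.val_mul, ← mul_kronecker_mul, hsq, Matrix.one_mul]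
      obtain ⟨k, hk, e⟩ := exists_root hpol h2 hr
      exact ⟨r * r, ⟨k, hM k hk (e ▸ Or.inl ⟨_, _, hv⟩), e⟩, hv⟩
  rcases siegel_or_siegel hO h2 hq (Subgroup.mem_map_of_mem _ hg) hgT with h | h
  · exact omega_le_of_HasR hpol h2 hO h
  · obtain ⟨w, hw⟩ := exists_mat9 hpol h2 (iso2_W (F := F))
    have e : (M.map (MulAut.conj w).toMonoidHom).map (mat9 Q) =
        (M.map (mat9 Q)).map (MulAut.conj (W : GL I9 F)).toMonoidHom := by
      rw [Subgroup.map_map, Subgroup.map_map]
      congr 1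
      ext1 k
      simp [MulAut.conj_apply, hw]
    have hle := omega_le_of_HasR hpol h2 (e ▸ hO.conj_W) (e ▸ h)
    intro k hk
    obtain ⟨m, hm, e'⟩ := hle ((inferInstance : (commutator (orthGroup Q)).Normal).conj_mem k hk w)
    have : m = k := (MulAut.conj w).injective e'
    rwa [← this]

theorem exists_not_mem (h2 : (2 : F) ≠ 0) : ∃ k ∈ commutator (orthGroup Q), mat9 Q k ∉ TT := by
  let r : GL I9 F := ⟨Rad 0 N, Rad 0 (-N), by rw [Rad_mul]; simp [Rad_zero], by rw [Rad_mul]; simp [Rad_zero]⟩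
  have hr : Iso2 r := by
    show adj2 (Rad 0 N) * Rad 0 N = 1
    rw [adj2_Rad, adj_zero, neg_zero, adj_N, Rad_mul]
    simp [Rad_zero]
  obtain ⟨k, hk, e⟩ := exists_root hpol h2 hr
  refine ⟨k, hk, fun h => ?_⟩
  rw [e] at h
  obtain ⟨A, B, hAB⟩ := TT_sq h
  rw [Units.val_mul, Units.val_mul, show r.1 = Rad 0 N from rfl, Rad_mul, Rad_mul] at hAB
  have hd := congrFun (congrFun hAB (0, 0)) (0, 0)
  have ho := congrFun (congrFun hAB (0, 0)) (0, 1)
  have hs := congrFun (congrFun hAB (0, 0)) (2, 1)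
  simp [Rad, N_sq, N] at hd ho hs
  have h4 : (1 + 1 + (1 + 1) : F) ≠ 0 := by
    have := four_ne h2
    intro hh; exact this (by linear_combination hh)
  grind

end Model

/-- The stabiliser of the tensor square of a three-dimensional space is maximal in `Ω`. -/
theorem omega_isMaximal {Qf : (ι → F) → F} (hQ : Cfsg.Geo.IsNondegenerateQuadraticForm Qf) (h2 : (2 : F) ≠ 0)
    (hq : 5 ≤ Fintype.card F) {e : ι ≃ (Fin 2 → Fin 3)} {P : GL ι F}
    {f₁ : (Fin 3 → F) → (Fin 3 → F) → F} (hf₁ : Cfsg.Geo.IsSymmetricForm f₁)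
    (hT : Cfsg.Geo.IsTensorPowerFormStructure id (polar Qf) f₁ e P) :
    Cfsg.Geo.IsMaximalIn (Cfsg.Geo.omegaGL Qf)
      (Cfsg.Geo.tensorWreathSubgroup 3 2 e P ⊓ Cfsg.Geo.omegaGL Qf) := by
  classical
  obtain ⟨Q, hQf, -⟩ := exists_quadOf hQ
  obtain ⟨C, ν, hν, hC⟩ := exists_basis h2 hf₁
  obtain ⟨c, hc, hf⟩ := hT
  set G := Cfsg.Geo.gramMatrix f₁
  have hCd : C.det ≠ 0 := fun h => by
    have := congrArg Matrix.det hC
    rw [det_mul, det_mul, h, mul_zero, det_smul] at this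
    simp [Matrix.det_fin_three, J3, hν] at this
  let K : GL I9 F := GeneralLinearGroup.mkOfDetNeZero (C ⊗ₖ C) (by
    rw [det_kronecker]; exact mul_ne_zero (pow_ne_zero _ hCd) (pow_ne_zero _ hCd))
  let ε : ι ≃ I9 := e.trans pairing
  let T : GL ι F := P * Cfsg.Geo.glReindex ε.symm K
  let LT : (ι → F) ≃ₗ[F] (ι → F) :=
    LinearEquiv.ofLinearMap (Matrix.toLin' T.1) (Matrix.toLin' T⁻¹.1)
      (by rw [← Matrix.toLin'_mul, ← Units.val_mul, mul_inv_cancel, Units.val_one, Matrix.toLin'_one])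
      (by rw [← Matrix.toLin'_mul, ← Units.val_mul, inv_mul_cancel, Units.val_one, Matrix.toLin'_one])
  let Φ : (I9 → F) ≃ₗ[F] (ι → F) := (LinearEquiv.funCongrLeft F F ε).trans LT
  have hΦ : ∀ x, Φ x = P.1 *ᵥ ((fun a => ((C ⊗ₖ C) *ᵥ x) (pairing a)) ∘ e) := fun x => by
    show (P.1 * Matrix.reindex ε.symm ε.symm (C ⊗ₖ C)) *ᵥ (x ∘ ε) = _
    rw [← Matrix.mulVec_mulVec]
    congr 1
    funext i
    simp only [Matrix.mulVec, dotProduct, Matrix.reindex_apply, Matrix.submatrix_apply, Equiv.symm_symm,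
      Function.comp_apply]
    exact ε.sum_comp (fun y => (C ⊗ₖ C) (ε i) y * x y)
  have hpΦ : ∀ x y, polar Q (Φ x) (Φ y) = c * ν ^ 2 * (x ⬝ᵥ ((J3 : Mat3 F) ⊗ₖ (J3 : Mat3 F)) *ᵥ y) := fun x y => by
    have hh : polar Q (Φ x) (Φ y) = polar Qf (Φ x) (Φ y) := by simp only [QuadraticMap.polar, hQf]
    rw [hh, hΦ, hΦ, hf]
    have e1 : ∀ z w : I9 → F, (∑ a : Fin 2 → Fin 3, ∑ b : Fin 2 → Fin 3,
        z (pairing a) * (∏ i, G (a i) (b i)) * id (w (pairing b))) = z ⬝ᵥ (G ⊗ₖ G) *ᵥ w := fun z w => by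
      rw [dotProduct, ← pairing.sum_comp]
      refine Finset.sum_congr rfl fun a _ => ?_
      rw [Matrix.mulVec, dotProduct, ← pairing.sum_comp, Finset.mul_sum]
      refine Finset.sum_congr rfl fun b _ => ?_
      rw [Fin.prod_univ_two, mul_assoc, id]
      rfl
    rw [e1, ← vecMul_transpose, ← dotProduct_mulVec, Matrix.mulVec_mulVec, Matrix.mulVec_mulVec,
      ← kroneckerMap_transpose, ← mul_kronecker_mul, ← mul_kronecker_mul, hC, smul_kronecker, kronecker_smul,
      smul_smul, smul_mulVec, dotProduct_smul, smul_eq_mul]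
    ring
  set s := (c * ν ^ 2)⁻¹ with hs
  have hs0 : s ≠ 0 := inv_ne_zero (mul_ne_zero hc (pow_ne_zero _ hν))
  set Q' : QuadraticForm F (I9 → F) := s • Q.comp Φ.toLinearMap with hQ'
  have hpol : ∀ x y, polar Q' x y = x ⬝ᵥ ((J3 : Mat3 F) ⊗ₖ (J3 : Mat3 F)) *ᵥ y := fun x y => by
    have : polar Q' x y = s * polar Q (Φ x) (Φ y) := by
      simp [hQ', QuadraticMap.polar, mul_sub, map_add]
    rw [this, hpΦ, ← mul_assoc, hs, inv_mul_cancel₀ (mul_ne_zero hc (pow_ne_zero _ hν)), one_mul]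
  have hsame : orthGroup Q' = orthGroup (Q.comp Φ.toLinearMap) := by
    ext g
    exact forall_congr' fun v => mul_right_inj' hs0
  set D : orthGroup Q' ≃* orthGroup Q :=
    (MulEquiv.subgroupCongr hsame).trans (orthGroupCongr Φ fun _ => rfl) with hD
  have hDv : ∀ g x, (D g).1 (Φ x) = Φ (g.1 x) := fun g x => by
    show Φ (g.1 (Φ.symm (Φ x))) = _
    rw [Φ.symm_apply_apply]
  have hmem : ∀ g, orthToGL Q hQf (D g) ∈ Cfsg.Geo.tensorWreathSubgroup 3 2 e P ↔ mat9 Q' g ∈ TT := by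
    intro g
    have hval : orthToGL Q hQf (D g) = MulAut.conj P (Cfsg.Geo.glReindex e.symm
        ((Cfsg.Geo.glReindex pairing).symm (K * mat9 Q' g * K⁻¹))) := by
      have h1 : orthToGL Q hQf (D g) * T = T * Cfsg.Geo.glReindex ε.symm (mat9 Q' g) := by
        refine Units.ext (Matrix.ext_iff_mulVec.2 fun z => ?_)
        obtain ⟨x, rfl⟩ := (LinearEquiv.funCongrLeft F F ε).surjective z
        show ((orthToGL Q hQf (D g)).1 * T.1) *ᵥ (x ∘ ε) =
          (T.1 * (Cfsg.Geo.glReindex ε.symm (mat9 Q' g)).1) *ᵥ (x ∘ ε)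
        rw [← Matrix.mulVec_mulVec, ← Matrix.mulVec_mulVec]
        show _ *ᵥ Φ x = _
        rw [← Matrix.toLin'_apply, toLin'_orthToGL]
        show (D g).1 (Φ x) = _
        rw [hDv, ← mat9_mulVec]
        show T.1 *ᵥ (((mat9 Q' g).1 *ᵥ x) ∘ ε) = T.1 *ᵥ _
        congr 1
        funext i
        show _ = (Matrix.reindex ε.symm ε.symm (mat9 Q' g).1 *ᵥ (x ∘ ε)) i
        simp only [Matrix.mulVec, dotProduct, Matrix.reindex_apply, Matrix.submatrix_apply, Equiv.symm_symm,
          Function.comp_apply]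
        exact (ε.sum_comp (fun y => (mat9 Q' g).1 (ε i) y * x y)).symm
      have h2' : ∀ X : GL I9 F, Cfsg.Geo.glReindex e.symm ((Cfsg.Geo.glReindex pairing).symm X) =
          Cfsg.Geo.glReindex ε.symm X := fun X => Units.ext (Matrix.ext fun i j => rfl)
      rw [h2', eq_mul_inv_iff_mul_eq.2 h1, MulAut.conj_apply, map_mul, map_mul, map_inv]
      simp only [T, _root_.mul_inv_rev, mul_assoc]
    rw [hval]
    have hK : K ∈ TT := Or.inl ⟨C, C, rfl⟩
    constructor
    · rintro ⟨_, ⟨z, hz, rfl⟩, hz'⟩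
      have := (Cfsg.Geo.glReindex e.symm).injective ((MulAut.conj P).injective hz')
      have hz2 : K * mat9 Q' g * K⁻¹ ∈ TT := by
        rw [← map_wreath]
        exact ⟨z, hz, by rw [this]; exact MulEquiv.apply_symm_apply _ _⟩
      simpa [mul_assoc] using TT.mul_mem (TT.mul_mem (TT.inv_mem hK) hz2) hK
    · intro hg
      have hz2 : K * mat9 Q' g * K⁻¹ ∈ TT := TT.mul_mem (TT.mul_mem hK hg) (TT.inv_mem hK)
      rw [← map_wreath] at hz2
      obtain ⟨z, hz, hz'⟩ := hz2
      refine ⟨_, ⟨z, hz, rfl⟩, ?_⟩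
      rw [← hz']
      simp
  have hcomm : ∀ g, D g ∈ commutator (orthGroup Q) ↔ g ∈ commutator (orthGroup Q') := fun g => by
    have e1 : (commutator (orthGroup Q')).map D.toMonoidHom = commutator (orthGroup Q) := by
      rw [commutator_def, Subgroup.map_commutator, Subgroup.map_top_of_surjective _ D.surjective, commutator_def]
    rw [← e1]
    exact Subgroup.mem_map_equiv.trans (by rw [D.symm_apply_apply])
  refine omega_isMaximalIn_inf Q hQf _ ?_ fun M hM g hgM _ hgN => ?_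
  · obtain ⟨g, hg, hgT⟩ := exists_not_mem hpol h2
    exact ⟨D g, (hcomm g).2 hg, fun hN => hgT ((hmem g).1 hN)⟩
  · obtain ⟨g', rfl⟩ := D.surjective g
    have hle := omega_le_of_not_mem hpol h2 hq (M := M.comap D.toMonoidHom)
      (fun k hk hkT => hM _ ((hcomm k).2 hk) ((hmem k).2 hkT)) (g := g') hgM fun hT' => hgN ((hmem g').2 hT')
    intro k hk
    obtain ⟨k', rfl⟩ := D.surjective k
    exact hle ((hcomm k').1 hk)

end CfsgLib.Classical.TensorSquareO3
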