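import Mathlib

/-!
# Relative traces of equivariant maps against a one-parameter group
-/

set_option autoImplicit false
set_option linter.unusedSectionVars false
set_option linter.style.longLine false

namespace CfsgLib.Classical.TensorSquareO3

open Matrix

variable {F : Type*} [Field F] [Fintype F] {J : Type} [Fintype J] [DecidableEq J]

/-- Conjugation by an invertible matrix. -/
def conjM (g : GL J F) : Matrix J J F →ₗ[F] Matrix J J F :=
  LinearMap.mulLeft F g.1 ∘ₗ LinearMap.mulRight F g⁻¹.1

theorem conjM_apply (g : GL J F) (X : Matrix J J F) : conjM g X = g.1 * X * g⁻¹.1 := by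
  simp [conjM, Matrix.mul_assoc]

theorem conjM_mul (g h : GL J F) (X : Matrix J J F) : conjM (g * h) X = conjM g (conjM h X) := by
  simp only [conjM_apply, _root_.mul_inv_rev, Units.val_mul, Matrix.mul_assoc]

theorem conjM_one (X : Matrix J J F) : conjM (1 : GL J F) X = X := by simp [conjM_apply]

theorem conjM_inv_self (g : GL J F) (X : Matrix J J F) : conjM g⁻¹ (conjM g X) = X := by
  rw [← conjM_mul, inv_mul_cancel, conjM_one]

theorem conjM_self_inv (g : GL J F) (X : Matrix J J F) : conjM g (conjM g⁻¹ X) = X := by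
  rw [← conjM_mul, mul_inv_cancel, conjM_one]

theorem conjM_one_mat (g : GL J F) : conjM g (1 : Matrix J J F) = 1 := by
  rw [conjM_apply, Matrix.mul_one, ← Units.val_mul, mul_inv_cancel, Units.val_one]

theorem conjM_mul_mat (g : GL J F) (X Y : Matrix J J F) : conjM g (X * Y) = conjM g X * conjM g Y := by
  simp only [conjM_apply]
  rw [show g.1 * X * g⁻¹.1 * (g.1 * Y * g⁻¹.1) = g.1 * X * (g⁻¹.1 * g.1) * Y * g⁻¹.1 by
    simp only [Matrix.mul_assoc], ← Units.val_mul, inv_mul_cancel, Units.val_one, Matrix.mul_one]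
  simp only [Matrix.mul_assoc]

variable (M T : Subgroup (GL J F)) (φ : Matrix J J F →ₗ[F] Matrix J J F)

/-- The term of a coset. -/
def coTerm (hφ : ∀ h ∈ M, h ∈ T → ∀ Y, φ (conjM h Y) = conjM h (φ Y)) :
    (↥M ⧸ T.subgroupOf M) → (Matrix J J F →ₗ[F] Matrix J J F) :=
  Quotient.lift (fun g : M => conjM g.1 ∘ₗ φ ∘ₗ conjM g.1⁻¹) fun a b hab => by
    have h0 : a⁻¹ * b ∈ T.subgroupOf M := QuotientGroup.leftRel_apply.1 hab
    have hT : ((a⁻¹ * b : M) : GL J F) ∈ T := h0
    ext1 Y
    simp only [LinearMap.comp_apply]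
    conv_rhs => rw [show b.1 = a.1 * ((a⁻¹ * b : M) : GL J F) by simp, _root_.mul_inv_rev, conjM_mul, conjM_mul]
    have := hφ _ (a⁻¹ * b).2 hT (conjM (((a⁻¹ * b : M) : GL J F))⁻¹ (conjM a.1⁻¹ Y))
    rw [← this, conjM_self_inv]

/-- The relative trace of `φ`. -/
noncomputable def coTrace (hφ : ∀ h ∈ M, h ∈ T → ∀ Y, φ (conjM h Y) = conjM h (φ Y)) :
    Matrix J J F →ₗ[F] Matrix J J F :=
  letI := Fintype.ofFinite (↥M ⧸ T.subgroupOf M)
  ∑ c, coTerm M T φ hφ c

variable {M T φ} (hφ : ∀ h ∈ M, h ∈ T → ∀ Y, φ (conjM h Y) = conjM h (φ Y))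

theorem coTerm_mk (g : M) (Y : Matrix J J F) :
    coTerm M T φ hφ (QuotientGroup.mk g) Y = conjM g.1 (φ (conjM g.1⁻¹ Y)) := rfl

theorem coTerm_smul (a : M) (c : ↥M ⧸ T.subgroupOf M) (Y : Matrix J J F) :
    coTerm M T φ hφ (a • c) (conjM a.1 Y) = conjM a.1 (coTerm M T φ hφ c Y) := by
  induction c using QuotientGroup.induction_on with
  | H g =>
    rw [MulAction.Quotient.smul_mk, coTerm_mk, coTerm_mk, smul_eq_mul, Subgroup.coe_mul, _root_.mul_inv_rev,
      conjM_mul, conjM_mul, conjM_inv_self]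

theorem coTrace_conjM {a : GL J F} (ha : a ∈ M) (Y : Matrix J J F) :
    coTrace M T φ hφ (conjM a Y) = conjM a (coTrace M T φ hφ Y) := by
  letI := Fintype.ofFinite (↥M ⧸ T.subgroupOf M)
  simp only [coTrace, LinearMap.sum_apply, map_sum]
  rw [← Equiv.sum_comp (MulAction.toPerm (⟨a, ha⟩ : M))]
  exact Finset.sum_congr rfl fun c _ => coTerm_smul hφ ⟨a, ha⟩ c Y

/-- Values in a submodule pass to the relative trace. -/
theorem coTrace_mem_range {P : Matrix J J F → Prop} (h0 : P 0) (hadd : ∀ X Y, P X → P Y → P (X + Y))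
    (hval : ∀ g ∈ M, ∀ Y, P (conjM g (φ Y))) (Y : Matrix J J F) : P (coTrace M T φ hφ Y) := by
  letI := Fintype.ofFinite (↥M ⧸ T.subgroupOf M)
  rw [coTrace, LinearMap.sum_apply]
  refine Finset.sum_induction _ P hadd h0 fun c _ => ?_
  induction c using QuotientGroup.induction_on with
  | H g => rw [coTerm_mk]; exact hval _ g.2 _

/-- On a fixed vector the relative trace is `φ` up to norms, if only the trivial coset is fixed and each element of
the group has the fixed vectors of the whole group. -/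
theorem coTrace_sub_mem (x : Multiplicative F →* M) (hxT : ∀ a, (x a : GL J F) ∈ T)
    (hnf : ∀ g ∈ M, g ∉ T → ∃ a, g⁻¹ * (x a : GL J F) * g ∉ T)
    (hcent : ∀ a, a ≠ 1 → ∀ Z : Matrix J J F, conjM (x a).1 Z = Z → ∀ b, conjM (x b).1 Z = Z)
    (E : Submodule F (Matrix J J F)) (hE : ∀ Z, ∑ a, conjM (x a).1 Z ∈ E) {Y : Matrix J J F}
    (hY : ∀ a, conjM (x a).1 Y = Y) : coTrace M T φ hφ Y - φ Y ∈ E := by
  classical
  letI := Fintype.ofFinite (↥M ⧸ T.subgroupOf M)
  letI : MulAction (Multiplicative F) (↥M ⧸ T.subgroupOf M) := MulAction.compHom _ x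
  set f := fun c => coTerm M T φ hφ c Y with hf
  have hfs : ∀ (a : Multiplicative F) c, f (a • c) = conjM (x a).1 (f c) := fun a c => by
    simp only [hf]
    conv_lhs => rw [← hY a]
    exact coTerm_smul hφ (x a) c Y
  set c₀ : ↥M ⧸ T.subgroupOf M := QuotientGroup.mk 1 with hc₀
  have h0 : f c₀ = φ Y := by simp [hf, hc₀, coTerm_mk, conjM_one]
  have hfix : ∀ a : Multiplicative F, a • c₀ = c₀ := fun a => by
    show x a • c₀ = c₀
    rw [hc₀, MulAction.Quotient.smul_mk, QuotientGroup.eq]
    simpa [Subgroup.mem_subgroupOf] using hxT a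
  have hrel : coTrace M T φ hφ Y = f c₀ + ∑ c ∈ Finset.univ.erase c₀, f c := by
    rw [Finset.add_sum_erase _ _ (Finset.mem_univ _)]
    simp [coTrace, hf, LinearMap.sum_apply]
  rw [hrel, h0, add_sub_cancel_left,
    ← Finset.sum_fiberwise_of_maps_to (g := fun c => Quotient.mk (MulAction.orbitRel (Multiplicative F) _) c)
      (t := (Finset.univ.erase c₀).image fun c => Quotient.mk (MulAction.orbitRel (Multiplicative F) _) c)
      (fun c hc => Finset.mem_image_of_mem _ hc)]
  refine E.sum_mem fun o ho => ?_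
  obtain ⟨c, hc, rfl⟩ := Finset.mem_image.1 ho
  have hc0 := Finset.ne_of_mem_erase hc
  have horb : (Finset.univ.erase c₀).filter (fun d => Quotient.mk (MulAction.orbitRel (Multiplicative F) _) d =
      Quotient.mk (MulAction.orbitRel (Multiplicative F) _) c) =
      (Finset.univ : Finset (Multiplicative F)).image (· • c) := by
    ext d
    simp only [Finset.mem_filter, Finset.mem_erase, Finset.mem_univ, and_true, Finset.mem_image, true_and]
    refine ⟨fun h => Quotient.exact h.2, fun ⟨a, ha⟩ => ⟨fun h => hc0 ?_, Quotient.sound ⟨a, ha⟩⟩⟩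
    exact MulAction.injective a ((ha.trans h).trans (hfix a).symm)
  rw [horb]
  by_cases hst : ∀ a : Multiplicative F, a • c = c → a = 1
  · rw [Finset.sum_image (fun a _ b _ h => inv_mul_eq_one.1 (hst (b⁻¹ * a) (by
      rw [mul_smul, show a • c = b • c from h, inv_smul_smul])) |>.symm)]
    simp only [hfs]
    exact hE _
  · push Not at hst
    obtain ⟨a, hac, ha1⟩ := hst
    have hfx : ∀ b, conjM (x b).1 (f c) = f c := hcent a ha1 _ (by rw [← hfs, hac])
    have hsum : ∀ d ∈ (Finset.univ : Finset (Multiplicative F)).image (· • c), f d = f c := fun d hd => by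
      obtain ⟨b, -, rfl⟩ := Finset.mem_image.1 hd
      rw [hfs, hfx]
    rw [Finset.sum_congr rfl hsum, Finset.sum_const, ← Nat.cast_smul_eq_nsmul F]
    have hdvd : ringChar F ∣ ((Finset.univ : Finset (Multiplicative F)).image (· • c)).card := by
      haveI := ringChar.charP F
      have hmul := MulAction.card_orbit_mul_card_stabilizer_eq_card_group (Multiplicative F) c
      have hcard : ((Finset.univ : Finset (Multiplicative F)).image (· • c)).card =
          Fintype.card (MulAction.orbit (Multiplicative F) c) := by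
        rw [Fintype.card_eq_nat_card, Nat.card_eq_card_toFinset]
        exact congrArg Finset.card (by ext d; simp [MulAction.mem_orbit_iff])
      obtain ⟨n, hp, hn⟩ := FiniteField.card F (ringChar F)
      have hd : Fintype.card (MulAction.orbit (Multiplicative F) c) ∣ ringChar F ^ (n : ℕ) :=
        ⟨_, by rw [hmul, Fintype.card_multiplicative, hn]⟩
      obtain ⟨k, -, hk⟩ := (Nat.dvd_prime_pow hp).1 hd
      rw [hcard, hk]
      refine dvd_pow_self _ fun hk0 => ?_
      subst hk0
      have hone : ∀ b : Multiplicative F, b • c = c := fun b => by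
        have hs := Fintype.card_le_one_iff.1 (le_of_eq (hk.trans (pow_zero _)))
        exact congrArg Subtype.val (hs ⟨b • c, MulAction.mem_orbit _ _⟩ ⟨c, MulAction.mem_orbit_self _⟩)
      induction c using QuotientGroup.induction_on with
      | H g =>
        obtain ⟨b, hb⟩ := hnf g.1 g.2 fun hgT => hc0 (by
          rw [hc₀, QuotientGroup.eq]; simpa [Subgroup.mem_subgroupOf] using hgT)
        refine hb ?_
        have := hone b⁻¹
        change x b⁻¹ • (QuotientGroup.mk g : ↥M ⧸ T.subgroupOf M) = _ at this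
        rw [MulAction.Quotient.smul_mk, QuotientGroup.eq] at this
        simpa [Subgroup.mem_subgroupOf, mul_assoc] using this
    rw [(CharP.cast_eq_zero_iff F (ringChar F) _).2 hdvd, zero_smul]
    exact E.zero_mem

end CfsgLib.Classical.TensorSquareO3
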