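import Cfsg.Agent.Lib.Classical.TensorSquareO3.Span
import Cfsg.Agent.Lib.Classical.TensorSquareO3.RelTrace

/-!
# The tensor square of a three-dimensional orthogonal space
-/

set_option autoImplicit false
set_option linter.unusedSectionVars false
set_option linter.style.longLine false

namespace CfsgLib.Classical.TensorSquareO3

open Matrix
open scoped Kronecker

variable {F : Type*} [Field F] [Fintype F]

/-- The index set of the tensor square. -/
abbrev I9 := Fin 3 × Fin 3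

/-- Nine by nine matrices. -/
abbrev Op (F : Type*) := Matrix I9 I9 F

/-- The adjoint on the tensor square. -/
def adj2 (Y : Op F) : Op F := (J3 ⊗ₖ J3) * Yᵀ * (J3 ⊗ₖ J3)

theorem J9_mul_self : ((J3 : Mat3 F) ⊗ₖ (J3 : Mat3 F)) * (J3 ⊗ₖ J3) = 1 := by
  rw [← mul_kronecker_mul, J3_mul_self, one_kronecker_one]

theorem adj2_kron (A B : Mat3 F) : adj2 (A ⊗ₖ B) = adj A ⊗ₖ adj B := by
  rw [adj2, adj, adj, ← kroneckerMap_transpose, mul_kronecker_mul, mul_kronecker_mul]

theorem adj2_mul (X Y : Op F) : adj2 (X * Y) = adj2 Y * adj2 X := by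
  simp only [adj2, transpose_mul, Matrix.mul_assoc]
  rw [← Matrix.mul_assoc (J3 ⊗ₖ J3) (J3 ⊗ₖ J3), J9_mul_self, Matrix.one_mul]

theorem adj2_add (X Y : Op F) : adj2 (X + Y) = adj2 X + adj2 Y := by simp [adj2, Matrix.mul_add, Matrix.add_mul]

theorem adj2_sub (X Y : Op F) : adj2 (X - Y) = adj2 X - adj2 Y := by simp [adj2, Matrix.mul_sub, Matrix.sub_mul]

theorem adj2_smul (c : F) (X : Op F) : adj2 (c • X) = c • adj2 X := by simp [adj2]

theorem adj2_adj2 (Y : Op F) : adj2 (adj2 Y) = Y := by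
  have hJ : ((J3 : Mat3 F) ⊗ₖ (J3 : Mat3 F))ᵀ = J3 ⊗ₖ J3 := by
    rw [← kroneckerMap_transpose]
    congr 1 <;> (ext i j; fin_cases i <;> fin_cases j <;> simp [J3])
  simp only [adj2, transpose_mul, transpose_transpose, hJ, Matrix.mul_assoc]
  rw [← Matrix.mul_assoc (J3 ⊗ₖ J3) (J3 ⊗ₖ J3), J9_mul_self, Matrix.one_mul, Matrix.mul_one]

/-- An isometry of the tensor square. -/
def Iso2 (g : GL I9 F) : Prop := adj2 g.1 * g.1 = 1

theorem Iso2.inv_val {g : GL I9 F} (h : Iso2 g) : g⁻¹.1 = adj2 g.1 := by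
  have e : adj2 g.1 * g.1 * g⁻¹.1 = g⁻¹.1 := by rw [show adj2 g.1 * g.1 = 1 from h, Matrix.one_mul]
  rwa [Matrix.mul_assoc, ← Units.val_mul, mul_inv_cancel, Units.val_one, Matrix.mul_one, eq_comm] at e

theorem Iso2.mul {g h : GL I9 F} (hg : Iso2 g) (hh : Iso2 h) : Iso2 (g * h) := by
  unfold Iso2 at *
  rw [Units.val_mul, adj2_mul, Matrix.mul_assoc, ← Matrix.mul_assoc (adj2 g.1), hg, Matrix.one_mul, hh]

theorem Iso2.inv {g : GL I9 F} (hg : Iso2 g) : Iso2 g⁻¹ := by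
  unfold Iso2
  rw [hg.inv_val, adj2_adj2, ← hg.inv_val, ← Units.val_mul, mul_inv_cancel, Units.val_one]

/-! ### Products and the exchange -/

theorem kron_eq_one {A B : Mat3 F} (h : A ⊗ₖ B = 1) : ∃ c : F, c ≠ 0 ∧ A = c • 1 ∧ B = c⁻¹ • 1 := by
  have e : ∀ i j k l : Fin 3, A i j * B k l = if i = j ∧ k = l then 1 else 0 := fun i j k l => by
    simpa [Matrix.one_apply] using congrFun (congrFun h (i, k)) (j, l)
  have h00 : A 0 0 * B 0 0 = 1 := by simpa using e 0 0 0 0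
  have hA : A 0 0 ≠ 0 := left_ne_zero_of_mul_eq_one h00
  have hB : B 0 0 ≠ 0 := right_ne_zero_of_mul_eq_one h00
  refine ⟨A 0 0, hA, ?_, ?_⟩
  · ext i j
    have := e i j 0 0
    rw [Matrix.smul_apply, Matrix.one_apply, smul_eq_mul]
    refine mul_right_cancel₀ hB ?_
    rw [this]
    split_ifs with h1 h2 h2 <;> simp_all
  · ext i j
    have := e 0 0 i j
    rw [Matrix.smul_apply, Matrix.one_apply, smul_eq_mul]
    refine mul_left_cancel₀ hA ?_
    rw [this]
    split_ifs with h1 h2 h2 <;> simp_all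

theorem kron_eq_zero {A B : Mat3 F} (h : A ⊗ₖ B = 0) : A = 0 ∨ B = 0 := by
  by_contra! hh
  obtain ⟨i, j, hij⟩ : ∃ i j, A i j ≠ 0 := by
    by_contra! e; exact hh.1 (Matrix.ext e)
  obtain ⟨k, l, hkl⟩ : ∃ k l, B k l ≠ 0 := by
    by_contra! e; exact hh.2 (Matrix.ext e)
  exact mul_ne_zero hij hkl (by simpa using congrFun (congrFun h (i, k)) (j, l))

/-- The exchange of the factors. -/
def sw (Y : Op F) : Op F := Y.submatrix Prod.swap Prod.swap

theorem sw_kron (A B : Mat3 F) : sw (A ⊗ₖ B) = B ⊗ₖ A := by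
  ext i j; simp [sw, mul_comm]

theorem sw_sw (Y : Op F) : sw (sw Y) = Y := by ext i j; simp [sw]

/-- The exchange matrix. -/
def Wm : Op F := (1 : Op F).submatrix Prod.swap id

theorem Wm_mul (Y : Op F) : Wm * Y = Y.submatrix Prod.swap id := by
  rw [Wm]
  ext i j
  simp [Matrix.mul_apply, Matrix.one_apply]

theorem mul_Wm (Y : Op F) : Y * Wm = Y.submatrix id Prod.swap := by
  rw [Wm]
  ext ⟨i, i'⟩ ⟨j, j'⟩
  simp only [Matrix.mul_apply, Matrix.submatrix_apply, Matrix.one_apply, id_eq, Prod.swap_prod_mk]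
  rw [Finset.sum_eq_single (j', j)]
  · simp
  · rintro ⟨k, k'⟩ - hne
    rw [Prod.swap_prod_mk, if_neg (fun h => hne ?_), mul_zero]
    cases h; rfl
  · simp

theorem Wm_mul_self : (Wm : Op F) * Wm = 1 := by
  rw [Wm_mul, Wm]; ext i j; simp [Matrix.one_apply]

theorem Wm_conj (Y : Op F) : Wm * Y * Wm = sw Y := by
  rw [Wm_mul, mul_Wm]; rfl

/-- The exchange as an invertible matrix. -/
def W : GL I9 F := ⟨Wm, Wm, Wm_mul_self, Wm_mul_self⟩

theorem W_inv : (W : GL I9 F)⁻¹ = W := rfl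

theorem W_mul_W : (W : GL I9 F) * W = 1 := Units.ext Wm_mul_self

theorem iso2_W : Iso2 (W : GL I9 F) := by
  show adj2 Wm * Wm = 1
  have hT : (Wm : Op F)ᵀ = Wm := by
    ext ⟨i, i'⟩ ⟨j, j'⟩
    simp only [Wm, Matrix.transpose_apply, Matrix.submatrix_apply, Matrix.one_apply, id_eq, Prod.swap_prod_mk]
    congr 1
    simp only [Prod.mk.injEq, eq_iff_iff]
    exact ⟨fun h => ⟨h.2.symm, h.1.symm⟩, fun h => ⟨h.2.symm, h.1.symm⟩⟩
  rw [adj2, hT]
  calc (J3 : Mat3 F) ⊗ₖ (J3 : Mat3 F) * Wm * (J3 ⊗ₖ J3) * Wm = J3 ⊗ₖ J3 * (Wm * (J3 ⊗ₖ J3) * Wm) := by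
        simp only [Matrix.mul_assoc]
    _ = 1 := by rw [Wm_conj, sw_kron, J9_mul_self]

/-- A product of two factors. -/
def IsTens (g : GL I9 F) : Prop := ∃ A B : Mat3 F, g.1 = A ⊗ₖ B

theorem IsTens.mul {g h : GL I9 F} : IsTens g → IsTens h → IsTens (g * h) := fun ⟨A, B, e⟩ ⟨A', B', e'⟩ =>
  ⟨A * A', B * B', by rw [Units.val_mul, e, e', mul_kronecker_mul]⟩

theorem IsTens.conj_W {g : GL I9 F} : IsTens g → IsTens (W * g * W) := fun ⟨A, B, e⟩ =>
  ⟨B, A, by rw [Units.val_mul, Units.val_mul, e, show (W : GL I9 F).1 = Wm from rfl, Wm_conj, sw_kron]⟩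

/-- The stabiliser of the decomposition. -/
def TT : Subgroup (GL I9 F) where
  carrier := {g | IsTens g ∨ IsTens (g * W)}
  one_mem' := Or.inl ⟨1, 1, by rw [Units.val_one, one_kronecker_one]⟩
  mul_mem' := by
    rintro g h (hg | hg) (hh | hh)
    · exact Or.inl (hg.mul hh)
    · exact Or.inr (by rw [mul_assoc]; exact hg.mul hh)
    · refine Or.inr ?_
      rw [show g * h * W = g * W * (W * h * W) by simp [mul_assoc, ← mul_assoc W W, W_mul_W]]
      exact hg.mul hh.conj_W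
    · refine Or.inl ?_
      rw [show g * h = g * W * (W * (h * W) * W) by simp [mul_assoc, ← mul_assoc W W, W_mul_W]]
      exact hg.mul hh.conj_W
  inv_mem' := by
    intro g hg
    have h1 := (inv_eq_iff_mul_eq_one.2 (show g * g ^ (orderOf g - 1) = 1 by
      rw [← pow_succ', Nat.sub_add_cancel (orderOf_pos g), pow_orderOf_eq_one]))
    rw [h1]
    induction orderOf g - 1 with
    | zero => exact Or.inl ⟨1, 1, by rw [pow_zero, Units.val_one, one_kronecker_one]⟩
    | succ n ih =>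
      rw [pow_succ]
      rcases ih with ih | ih <;> rcases hg with hg | hg
      · exact Or.inl (ih.mul hg)
      · exact Or.inr (by rw [mul_assoc]; exact ih.mul hg)
      · refine Or.inr ?_
        rw [show g ^ n * g * W = g ^ n * W * (W * g * W) by simp [mul_assoc, ← mul_assoc W W, W_mul_W]]
        exact ih.mul hg.conj_W
      · refine Or.inl ?_
        rw [show g ^ n * g = g ^ n * W * (W * (g * W) * W) by simp [mul_assoc, ← mul_assoc W W, W_mul_W]]
        exact ih.mul hg.conj_W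

theorem mem_TT {g : GL I9 F} : g ∈ TT ↔ IsTens g ∨ IsTens (g * W) := Iff.rfl

theorem W_mem_TT : (W : GL I9 F) ∈ TT := Or.inr ⟨1, 1, by rw [W_mul_W, Units.val_one, one_kronecker_one]⟩

/-- Isometric products have isometric factors. -/
theorem iso_factors (h2 : (2 : F) ≠ 0) {g : GL I9 F} {A B : Mat3 F} (hg : Iso2 g) (e : g.1 = A ⊗ₖ B) :
    ∃ A' B', Iso A' ∧ Iso B' ∧ g.1 = A' ⊗ₖ B' := by
  have h1 : (adj A * A) ⊗ₖ (adj B * B) = 1 := by
    rw [mul_kronecker_mul, ← adj2_kron, ← e]; exact hg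
  obtain ⟨κ, hκ, hA, hB⟩ := kron_eq_one h1
  have hd : A.det * A.det = κ ^ 3 := by
    have := congrArg Matrix.det hA
    rw [det_mul, det_smul, det_one, mul_one, Fintype.card_fin] at this
    have hJ : (J3 : Mat3 F).det * (J3 : Mat3 F).det = 1 := by rw [← det_mul, J3_mul_self, det_one]
    rw [adj, det_mul, det_mul, det_transpose] at this
    linear_combination this - A.det * A.det * hJ
  have hA0 : A.det ≠ 0 := fun h => pow_ne_zero 3 hκ (by rw [← hd, h, mul_zero])
  refine ⟨(κ / A.det) • A, (A.det / κ) • B, ?_, ?_, ?_⟩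
  · rw [Iso, adj_smul, smul_mul_smul_comm, hA, smul_smul, show κ / A.det * (κ / A.det) * κ = 1 by
      field_simp; linear_combination -hd, one_smul]
  · rw [Iso, adj_smul, smul_mul_smul_comm, hB, smul_smul, show A.det / κ * (A.det / κ) * κ⁻¹ = 1 by
      field_simp; linear_combination hd, one_smul]
  · rw [e, smul_kronecker, kronecker_smul, smul_smul, show κ / A.det * (A.det / κ) = 1 by field_simp, one_smul]

/-! ### Partial traces -/

theorem ext_kron {V : Type*} [AddCommGroup V] [Module F V] {f g : Op F →ₗ[F] V}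
    (h : ∀ A B : Mat3 F, f (A ⊗ₖ B) = g (A ⊗ₖ B)) : f = g := by
  refine LinearMap.ext fun Y => ?_
  induction Y using Matrix.induction_on' with
  | h_zero => simp
  | h_add p q hp hq => rw [map_add, map_add, hp, hq]
  | h_std_basis x y c =>
    have : (Matrix.single x y c : Op F) = Matrix.single x.1 y.1 c ⊗ₖ Matrix.single x.2 y.2 1 := by
      rw [single_kronecker_single, mul_one]
    rw [this]; exact h _ _

/-- The partial trace over the second factor. -/
def ptr1 : Op F →ₗ[F] Mat3 F where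
  toFun Y := Matrix.of fun i j => ∑ k, Y (i, k) (j, k)
  map_add' Y Z := by ext i j; simp [Finset.sum_add_distrib]
  map_smul' c Y := by ext i j; simp [Finset.mul_sum]

/-- The exchange as a linear map. -/
def swL : Op F →ₗ[F] Op F where
  toFun := sw
  map_add' _ _ := rfl
  map_smul' _ _ := rfl

theorem ptr1_kron (A B : Mat3 F) : ptr1 (A ⊗ₖ B) = B.trace • A := by
  ext i j
  simp [ptr1, Matrix.trace, Finset.mul_sum, mul_comm]

/-- The map onto the Lie algebra of the two factors. -/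
def phi : Op F →ₗ[F] Op F :=
  let psi : Op F →ₗ[F] Op F :=
    { toFun := fun Y => Y - adj2 Y
      map_add' := fun X Y => by simp only [adj2_add]; abel
      map_smul' := fun c X => by simp only [adj2_smul, RingHom.id_apply, smul_sub] }
  ({ toFun := fun X => X ⊗ₖ (1 : Mat3 F)
     map_add' := fun X Y => add_kronecker X Y 1
     map_smul' := fun c X => smul_kronecker c X 1 } : Mat3 F →ₗ[F] Op F) ∘ₗ ptr1 ∘ₗ psi +
  swL ∘ₗ ({ toFun := fun X => X ⊗ₖ (1 : Mat3 F)
            map_add' := fun X Y => add_kronecker X Y 1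
            map_smul' := fun c X => smul_kronecker c X 1 } : Mat3 F →ₗ[F] Op F) ∘ₗ ptr1 ∘ₗ swL ∘ₗ psi

theorem phi_apply (Y : Op F) :
    phi Y = ptr1 (Y - adj2 Y) ⊗ₖ 1 + 1 ⊗ₖ ptr1 (sw (Y - adj2 Y)) := by
  show _ + sw (ptr1 (sw (Y - adj2 Y)) ⊗ₖ (1 : Mat3 F)) = _
  rw [sw_kron]
  rfl

theorem phi_kron (A B : Mat3 F) :
    phi (A ⊗ₖ B) = (B.trace • A - (adj B).trace • adj A) ⊗ₖ 1 + 1 ⊗ₖ (A.trace • B - (adj A).trace • adj B) := by
  rw [phi_apply, adj2_kron, show sw (A ⊗ₖ B - adj A ⊗ₖ adj B) = B ⊗ₖ A - adj B ⊗ₖ adj A by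
    show sw (A ⊗ₖ B) - sw (adj A ⊗ₖ adj B) = _
    rw [sw_kron, sw_kron], map_sub, map_sub, ptr1_kron, ptr1_kron, ptr1_kron, ptr1_kron]

theorem trace_adj (A : Mat3 F) : (adj A).trace = A.trace := by
  rw [adj_eq, Matrix.trace_fin_three, Matrix.trace_fin_three]; simp; ring

theorem phi_equiv (h2 : (2 : F) ≠ 0) {h : GL I9 F} (hT : h ∈ TT) (hi : Iso2 h) (Y : Op F) :
    phi (conjM h Y) = conjM h (phi Y) := by
  have key : ∀ k : GL I9 F, IsTens k → Iso2 k → phi ∘ₗ conjM k = conjM k ∘ₗ phi := by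
    rintro k ⟨A₀, B₀, e₀⟩ hk
    obtain ⟨A, B, hA, hB, e⟩ := iso_factors h2 hk e₀
    have hc : ∀ X Z : Mat3 F, conjM k (X ⊗ₖ Z) = (A * X * adj A) ⊗ₖ (B * Z * adj B) := fun X Z => by
      rw [conjM_apply, hk.inv_val, e, adj2_kron, ← mul_kronecker_mul, ← mul_kronecker_mul]
    refine ext_kron fun X Z => ?_
    have tr : ∀ {C : Mat3 F}, Iso C → ∀ P : Mat3 F, (C * P * adj C).trace = P.trace := fun {C} hC P => by
      rw [Matrix.trace_mul_comm, ← Matrix.mul_assoc, show adj C * C = 1 from hC, Matrix.one_mul]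
    simp only [LinearMap.comp_apply, hc, phi_kron, map_add, adj_mul, adj_adj, ← Matrix.mul_assoc, tr hA, tr hB,
      trace_adj]
    simp only [Matrix.mul_one, Matrix.mul_assoc, hA.mul_adj, hB.mul_adj, Matrix.mul_sub, Matrix.sub_mul,
      Matrix.smul_mul, Matrix.mul_smul]
  have keyW : phi ∘ₗ conjM (W : GL I9 F) = conjM W ∘ₗ phi := by
    refine ext_kron fun X Z => ?_
    simp only [LinearMap.comp_apply, conjM_apply, W_inv, show (W : GL I9 F).1 = Wm from rfl, Wm_conj, sw_kron,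
      phi_kron]
    rw [show ∀ P Q : Op F, sw (P + Q) = sw P + sw Q from fun _ _ => rfl, sw_kron, sw_kron, add_comm]
  rcases hT with hT | hT
  · exact LinearMap.congr_fun (key h hT hi) Y
  · have e : h = (h * W) * W := by rw [mul_assoc, W_mul_W, mul_one]
    conv_lhs => rw [e, conjM_mul]
    conv_rhs => rw [e, conjM_mul]
    have e1 := LinearMap.congr_fun (key (h * W) hT (hi.mul iso2_W)) (conjM W Y)
    simp only [LinearMap.comp_apply] at e1
    rw [e1]
    exact congrArg _ (LinearMap.congr_fun keyW Y)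

/-- An overgroup of the stabiliser in the isometry group. -/
structure Over (M : Subgroup (GL I9 F)) : Prop where
  iso : ∀ g ∈ M, Iso2 g
  left : ∀ C, Iso C → ∀ a, ∃ g ∈ M, g.1 = (C * uM a * adj C) ⊗ₖ (1 : Mat3 F)
  right : ∀ C, Iso C → ∀ a, ∃ g ∈ M, g.1 = (1 : Mat3 F) ⊗ₖ (C * uM a * adj C)

theorem Over.conj_W {M : Subgroup (GL I9 F)} (hM : Over M) :
    Over (M.map (MulAut.conj (W : GL I9 F)).toMonoidHom) := by
  refine ⟨?_, fun C hC a => ?_, fun C hC a => ?_⟩
  · rintro _ ⟨g, hg, rfl⟩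
    simp only [MulEquiv.coe_toMonoidHom, MulAut.conj_apply, W_inv]
    exact (iso2_W.mul (hM.iso g hg)).mul iso2_W
  · obtain ⟨g, hg, e⟩ := hM.right C hC a
    refine ⟨_, ⟨g, hg, rfl⟩, ?_⟩
    simp only [MulEquiv.coe_toMonoidHom, MulAut.conj_apply, W_inv, Units.val_mul, e,
      show (W : GL I9 F).1 = Wm from rfl, Wm_conj, sw_kron]
  · obtain ⟨g, hg, e⟩ := hM.left C hC a
    refine ⟨_, ⟨g, hg, rfl⟩, ?_⟩
    simp only [MulEquiv.coe_toMonoidHom, MulAut.conj_apply, W_inv, Units.val_mul, e,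
      show (W : GL I9 F).1 = Wm from rfl, Wm_conj, sw_kron]

end CfsgLib.Classical.TensorSquareO3
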