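import Cfsg.Agent.Lib.Classical.TensorSquareO3.Model

/-!
# Without fusion of the factor root groups an overgroup stabilises the decomposition
-/

set_option autoImplicit false
set_option linter.unusedSectionVars false
set_option linter.style.longLine false

namespace CfsgLib.Classical.TensorSquareO3

open Matrix
open scoped Kronecker

variable {F : Type*} [Field F] [Fintype F] {M : Subgroup (GL I9 F)}

/-- Membership of the values of `A ⊗ B` in a subgroup. -/
def HasK (M : Subgroup (GL I9 F)) (A B : Mat3 F) : Prop := ∃ g ∈ M, g.1 = A ⊗ₖ B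

theorem Over.uA (hM : Over M) (a : F) : HasK M (uM a) 1 := by
  simpa [adj_one, HasK] using hM.left 1 iso_one a

theorem Over.uB (hM : Over M) (a : F) : HasK M 1 (uM a) := by
  simpa [adj_one, HasK] using hM.right 1 iso_one a

theorem lM_as_conj (a : F) : J3 * uM (-a) * adj J3 = (lM a : Mat3 F) := by
  rw [lM_eq, show adj (J3 : Mat3 F) = J3 by rw [adj_eq]; ext i j; fin_cases i <;> fin_cases j <;> simp [J3]]

theorem Over.lA (hM : Over M) (a : F) : HasK M (lM a) 1 := by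
  simpa [lM_as_conj, HasK] using hM.left J3 iso_J3 (-a)

theorem Over.lB (hM : Over M) (a : F) : HasK M 1 (lM a) := by
  simpa [lM_as_conj, HasK] using hM.right J3 iso_J3 (-a)

theorem HasK.conj {A B : Mat3 F} (hM : Over M) (h : HasK M A B) :
    ∃ g ∈ M, g ∈ TT ∧ ∀ X Y : Mat3 F, conjM g (X ⊗ₖ Y) = (A * X * adj A) ⊗ₖ (B * Y * adj B) := by
  obtain ⟨g, hg, e⟩ := h
  refine ⟨g, hg, Or.inl ⟨A, B, e⟩, fun X Y => ?_⟩
  rw [conjM_apply, (hM.iso g hg).inv_val, e, adj2_kron, ← mul_kronecker_mul, ← mul_kronecker_mul]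

/-- The upper unipotents on the first factor. -/
def xA (h2 : (2 : F) ≠ 0) : Multiplicative F →* GL I9 F where
  toFun a := ⟨uM a.toAdd ⊗ₖ 1, uM (-a.toAdd) ⊗ₖ 1,
    by rw [← mul_kronecker_mul, uM_add h2, add_neg_cancel, uM_zero, Matrix.one_mul, one_kronecker_one],
    by rw [← mul_kronecker_mul, uM_add h2, neg_add_cancel, uM_zero, Matrix.one_mul, one_kronecker_one]⟩
  map_one' := Units.ext (by simp [uM_zero])
  map_mul' a b := Units.ext (by simp [← mul_kronecker_mul, uM_add h2])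

/-- The upper unipotents on the second factor. -/
def xB (h2 : (2 : F) ≠ 0) : Multiplicative F →* GL I9 F :=
  (MulAut.conj (W : GL I9 F)).toMonoidHom.comp (xA h2)

theorem xA_val (h2 : (2 : F) ≠ 0) (a : F) : (xA h2 (Multiplicative.ofAdd a)).1 = uM a ⊗ₖ (1 : Mat3 F) := rfl

theorem xB_val (h2 : (2 : F) ≠ 0) (a : F) : (xB h2 (Multiplicative.ofAdd a)).1 = (1 : Mat3 F) ⊗ₖ uM a := by
  show Wm * (uM a ⊗ₖ (1 : Mat3 F)) * Wm = _
  rw [Wm_conj, sw_kron]

theorem Over.xA_mem (hM : Over M) (h2 : (2 : F) ≠ 0) (a : Multiplicative F) : xA h2 a ∈ M := by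
  obtain ⟨g, hg, e⟩ := hM.uA a.toAdd
  rwa [show xA h2 a = g from Units.ext (by rw [e]; rfl)]

theorem Over.xB_mem (hM : Over M) (h2 : (2 : F) ≠ 0) (a : Multiplicative F) : xB h2 a ∈ M := by
  obtain ⟨g, hg, e⟩ := hM.uB a.toAdd
  rwa [show xB h2 a = g from Units.ext (by rw [e]; exact xB_val h2 a.toAdd)]

theorem xA_TT (h2 : (2 : F) ≠ 0) (a : Multiplicative F) : xA h2 a ∈ TT := Or.inl ⟨_, _, xA_val h2 a.toAdd⟩

theorem xB_TT (h2 : (2 : F) ≠ 0) (a : Multiplicative F) : xB h2 a ∈ TT := Or.inl ⟨_, _, xB_val h2 a.toAdd⟩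

/-- Left multiplication by a factor. -/
def N1 : Op F := N ⊗ₖ 1

theorem xA_expand (h2 : (2 : F) ≠ 0) (a : F) :
    (xA h2 (Multiplicative.ofAdd a)).1 = 1 + a • N1 + (a ^ 2 / 2) • (N1 * N1) := by
  rw [xA_val, uM_eq, add_kronecker, add_kronecker, smul_kronecker, smul_kronecker, one_kronecker_one, N1,
    ← mul_kronecker_mul, Matrix.one_mul]

theorem xA_fix (h2 : (2 : F) ≠ 0) {Z : Op F} (hc : Z * N1 = N1 * Z) (a : Multiplicative F) :
    conjM (xA h2 a) Z = Z := by
  have h : (xA h2 a).1 * Z = Z * (xA h2 a).1 := by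
    rw [show a = Multiplicative.ofAdd a.toAdd from rfl, xA_expand, Matrix.add_mul, Matrix.add_mul, Matrix.mul_add,
      Matrix.mul_add, Matrix.one_mul, Matrix.mul_one, Matrix.smul_mul, Matrix.smul_mul, Matrix.mul_smul,
      Matrix.mul_smul, hc, Matrix.mul_assoc, ← hc, ← Matrix.mul_assoc, ← hc, Matrix.mul_assoc]
  rw [conjM_apply, h, Matrix.mul_assoc, ← Units.val_mul, mul_inv_cancel, Units.val_one, Matrix.mul_one]

theorem xA_cent (h2 : (2 : F) ≠ 0) (a : Multiplicative F) (ha : a ≠ 1) (Z : Op F) (hZ : conjM (xA h2 a) Z = Z)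
    (b : Multiplicative F) : conjM (xA h2 b) Z = Z := by
  refine xA_fix h2 ?_ b
  have ha' : a.toAdd ≠ 0 := fun h => ha (toAdd_eq_zero.1 h)
  have h : (xA h2 a).1 * Z = Z * (xA h2 a).1 := by
    conv_rhs => rw [← hZ, conjM_apply]
    rw [Matrix.mul_assoc, ← Units.val_mul, inv_mul_cancel, Units.val_one, Matrix.mul_one]
  set X := (xA h2 a).1 with hX
  have e : N1 = a.toAdd⁻¹ • ((X - 1) - (2 : F)⁻¹ • ((X - 1) * (X - 1))) := by
    rw [show X = uM a.toAdd ⊗ₖ (1 : Mat3 F) from xA_val h2 a.toAdd, N1]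
    have e1 : uM a.toAdd ⊗ₖ (1 : Mat3 F) - 1 = (uM a.toAdd - 1) ⊗ₖ 1 := by
      rw [eq_comm, eq_sub_iff_add_eq, ← one_kronecker_one, ← add_kronecker, sub_add_cancel]
    rw [e1, ← mul_kronecker_mul, Matrix.one_mul, ← smul_kronecker]
    conv_lhs => rw [N_mem_adjoin h2 ha', smul_kronecker]
    congr 1
    rw [eq_sub_iff_add_eq, ← add_kronecker, sub_add_cancel]
  have hc : (X - 1) * Z = Z * (X - 1) := by rw [Matrix.sub_mul, Matrix.mul_sub, h, Matrix.one_mul, Matrix.mul_one]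
  have hcc : Commute (X - 1) Z := hc
  rw [e]
  exact ((hcc.sub_left ((hcc.mul_left hcc).smul_left _)).smul_left _).eq.symm

theorem xA_sum (h2 : (2 : F) ≠ 0) (hq : 5 ≤ Fintype.card F) (Z : Op F) :
    ∑ a, conjM (xA h2 a) Z = ((∑ a : F, a ^ 4) / 4) • (N1 * N1 * Z * (N1 * N1)) := by
  have hs : ∀ k, k < 4 → ∑ a : F, a ^ k = 0 := fun k hk =>
    FiniteField.sum_pow_lt_card_sub_one F k (by omega)
  have e : ∀ a : F, conjM (xA h2 (Multiplicative.ofAdd a)) Z = a ^ 0 • Z + a ^ 1 • (N1 * Z - Z * N1) +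
      a ^ 2 • ((2 : F)⁻¹ • (N1 * N1 * Z + Z * (N1 * N1)) - N1 * Z * N1) +
      a ^ 3 • ((2 : F)⁻¹ • (N1 * Z * (N1 * N1) - N1 * N1 * Z * N1)) + a ^ 4 • ((4 : F)⁻¹ • (N1 * N1 * Z * (N1 * N1))) :=
    fun a => by
      rw [conjM_apply, ← map_inv, ← ofAdd_neg, xA_expand, xA_expand]
      have h4 := four_ne (F := F) h2
      simp only [Matrix.add_mul, Matrix.mul_add, Matrix.one_mul, Matrix.mul_one, Matrix.smul_mul, Matrix.mul_smul,
        Matrix.mul_assoc, neg_sq]
      match_scalars <;> field_simp <;> ring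
  rw [← Multiplicative.ofAdd.sum_comp, Finset.sum_congr rfl fun a _ => e a]
  simp only [Finset.sum_add_distrib, ← Finset.sum_smul, hs 0 (by norm_num), hs 1 (by norm_num), hs 2 (by norm_num),
    hs 3 (by norm_num), zero_smul, zero_add]
  rw [smul_smul, div_eq_mul_inv]

/-- The Lie algebra of the two factors. -/
def InL (Z : Op F) : Prop := ∃ K K' : Mat3 F, adj K = -K ∧ adj K' = -K' ∧ Z = K ⊗ₖ 1 + 1 ⊗ₖ K'

theorem InL.add {X Y : Op F} : InL X → InL Y → InL (X + Y) := fun ⟨K, K', h, h', e⟩ ⟨L, L', g, g', e'⟩ =>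
  ⟨K + L, K' + L', by rw [adj_add, h, g, neg_add], by rw [adj_add, h', g', neg_add],
    by rw [e, e', add_kronecker, kronecker_add]; abel⟩

theorem phi_inL (Y : Op F) : InL (phi Y) := by
  induction Y using Matrix.induction_on' with
  | h_zero => exact ⟨0, 0, by simp [adj_zero], by simp [adj_zero], by simp⟩
  | h_add p q hp hq => rw [map_add]; exact hp.add hq
  | h_std_basis x y c =>
    have e : (Matrix.single x y c : Op F) = Matrix.single x.1 y.1 c ⊗ₖ Matrix.single x.2 y.2 1 := by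
      rw [single_kronecker_single, mul_one]
    rw [e, phi_kron]
    exact ⟨_, _, by rw [adj_sub, adj_smul, adj_smul, adj_adj, trace_adj]; abel,
      by rw [adj_sub, adj_smul, adj_smul, adj_adj, trace_adj]; abel, rfl⟩

theorem InL.skew {Z : Op F} : InL Z → adj2 Z = -Z := fun ⟨K, K', h, h', e⟩ => by
  rw [e, adj2_add, adj2_kron, adj2_kron, adj_one, h, h', neg_add]
  ext i j
  simp [Matrix.kroneckerMap_apply]

theorem InL.unique (h2 : (2 : F) ≠ 0) {K K' : Mat3 F} (h : adj K = -K) (h' : adj K' = -K')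
    (e : K ⊗ₖ (1 : Mat3 F) + 1 ⊗ₖ K' = 0) : K = 0 ∧ K' = 0 := by
  have e' : ∀ i j k l : Fin 3, K i j * (if k = l then 1 else 0) + (if i = j then 1 else 0) * K' k l = 0 :=
    fun i j k l => by simpa [Matrix.one_apply] using congrFun (congrFun e (i, k)) (j, l)
  have hK := skew_eq h2 h
  have hK' := skew_eq h2 h'
  have d1 := e' 1 1 0 0
  have d2 := e' 0 0 1 1
  have a1 := e' 0 1 0 0
  have a2 := e' 1 0 0 0
  have b1 := e' 0 0 0 1
  have b2 := e' 0 0 1 0
  rw [hK, hK'] at d1 d2 a1 a2 b1 b2 ⊢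
  simp [H, N, Nl] at d1 d2 a1 a2 b1 b2
  simp [d1, d2, a1, a2, b1, b2]

/-- Blocks of an operator along the first factor. -/
def block (Z : Op F) (k l : Fin 3) : Mat3 F := Matrix.of fun i j => Z (i, k) (j, l)

theorem block_mul_left (A : Mat3 F) (Z : Op F) (k l : Fin 3) : block (A ⊗ₖ 1 * Z) k l = A * block Z k l := by
  ext i j
  simp [block, Matrix.mul_apply, Fintype.sum_prod_type, Matrix.one_apply, Finset.sum_ite_eq]

theorem block_mul_right (A : Mat3 F) (Z : Op F) (k l : Fin 3) : block (Z * A ⊗ₖ 1) k l = block Z k l * A := by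
  ext i j
  simp [block, Matrix.mul_apply, Fintype.sum_prod_type, Matrix.one_apply, Finset.sum_ite_eq']

/-- A factor as a linear map. -/
def kA : Mat3 F →ₗ[F] Op F where
  toFun X := X ⊗ₖ 1
  map_add' X Y := add_kronecker X Y 1
  map_smul' c X := smul_kronecker c X 1

/-- The commutant of `N` on the first factor. -/
theorem commutant_N1 {Z : Op F} (hc : Z * N1 = N1 * Z) :
    ∃ C0 C1 C2 : Mat3 F, Z = 1 ⊗ₖ C0 + N ⊗ₖ C1 + (N * N) ⊗ₖ C2 := by
  refine ⟨Matrix.of fun k l => Z (0, k) (0, l), Matrix.of fun k l => Z (0, k) (1, l),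
    Matrix.of fun k l => -(Z (0, k) (2, l)), ?_⟩
  ext ⟨i, k⟩ ⟨j, l⟩
  have e := commutant_N (X := block Z k l) (by rw [← block_mul_right, ← block_mul_left]; exact congrArg (block · k l) hc)
  have := congrFun (congrFun e i) j
  simp only [block, Matrix.of_apply, Matrix.add_apply, Matrix.smul_apply, smul_eq_mul] at this
  rw [this]
  simp only [Matrix.add_apply, Matrix.kroneckerMap_apply, Matrix.of_apply]
  ring

/-- An element commuting with the two regular nilpotents of the first factor is a second factor. -/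
theorem commutant_pair {Z : Op F} (hc : Z * N1 = N1 * Z) (hl : Z * (Nl ⊗ₖ 1) = Nl ⊗ₖ (1 : Mat3 F) * Z) :
    ∃ C : Mat3 F, Z = 1 ⊗ₖ C := by
  obtain ⟨C0, C1, C2, rfl⟩ := commutant_N1 hc
  refine ⟨C0, ?_⟩
  have e : ∀ k l : Fin 3, C1 k l = 0 ∧ C2 k l = 0 := fun k l => by
    have := congrArg (block · k l) hl
    simp only [block_mul_left, block_mul_right] at this
    have e00 := congrFun (congrFun this 0) 0
    have e01 := congrFun (congrFun this 0) 1
    have e11 := congrFun (congrFun this 1) 1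
    simp [block, N, Nl, N_sq, Matrix.mul_apply, Matrix.vecMul, dotProduct, Fin.sum_univ_three] at e00 e01 e11
    constructor <;> grind
  have h1 : C1 = 0 := Matrix.ext fun k l => (e k l).1
  have h2 : C2 = 0 := Matrix.ext fun k l => (e k l).2
  simp [h1, h2]

/-- No factor root group is fused out of the stabiliser. -/
def NoFuse (M : Subgroup (GL I9 F)) (x : Multiplicative F →* GL I9 F) : Prop :=
  ∀ g ∈ M, g ∉ TT → ∃ a, g⁻¹ * x a * g ∉ TT

theorem traceless_conj {C : Mat3 F} (hC : Iso C) (X : Mat3 F) : (C * X * adj C - X).trace = 0 := by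
  rw [Matrix.trace_sub, Matrix.trace_mul_comm, ← Matrix.mul_assoc, show adj C * C = 1 from hC, Matrix.one_mul, sub_self]

theorem phi_conj_of_noFuse (hM : Over M) (h2 : (2 : F) ≠ 0) (hq : 5 ≤ Fintype.card F) (hA : NoFuse M (xA h2))
    (hB : NoFuse M (xB h2)) {g : GL I9 F} (hg : g ∈ M) (Y : Op F) : phi (conjM g Y) = conjM g (phi Y) := by
  have hφ : ∀ h ∈ M, h ∈ TT → ∀ Y : Op F, phi (conjM h Y) = conjM h (phi Y) :=
    fun h hh hT => phi_equiv h2 hT (hM.iso h hh)
  set D := coTrace M TT phi hφ - phi with hDdef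
  have hDk : ∀ k ∈ M, k ∈ TT → ∀ Y, D (conjM k Y) = conjM k (D Y) := fun k hk hkT Y => by
    rw [hDdef, LinearMap.sub_apply, LinearMap.sub_apply, coTrace_conjM hφ hk, hφ k hk hkT, map_sub]
  have hskew : ∀ Y, adj2 (D Y) = -D Y := fun Y => by
    rw [hDdef, LinearMap.sub_apply, adj2_sub, (phi_inL Y).skew,
      coTrace_mem_range hφ (P := fun Z => adj2 Z = -Z) (by simp [adj2]) (fun X Z hX hZ => by rw [adj2_add, hX, hZ, neg_add])
        (fun k hk Z => by
          rw [conjM_apply, (hM.iso k hk).inv_val, adj2_mul, adj2_mul, adj2_adj2, (phi_inL Z).skew]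
          simp [Matrix.mul_assoc]) Y]
    abel
  let P : Op F := N1 * N1
  let P' : Op F := sw P
  have hD1 : ∀ Y, Y * N1 = N1 * Y → ∃ v, D Y = ((∑ a : F, a ^ 4) / 4) • (P * v * P) := fun Y hY => by
    have := coTrace_sub_mem hφ ((xA h2).codRestrict M (hM.xA_mem h2)) (fun a => xA_TT h2 a) hA
      (fun a ha Z hZ b => xA_cent h2 a ha Z hZ b)
      (LinearMap.range ((((∑ a : F, a ^ 4) / 4) • (LinearMap.mulLeft F P ∘ₗ LinearMap.mulRight F P)) : Op F →ₗ[F] Op F))
      (fun Z => ⟨Z, by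
        show ((∑ a : F, a ^ 4) / 4) • (P * (Z * P)) = ∑ a, conjM (xA h2 a) Z
        rw [xA_sum h2 hq, Matrix.mul_assoc (N1 * N1)]⟩) (fun a => xA_fix h2 hY a)
    obtain ⟨v, hv⟩ := this
    exact ⟨v, by rw [hDdef, LinearMap.sub_apply, ← hv, Matrix.mul_assoc]; rfl⟩
  have swmul : ∀ X Z : Op F, sw (X * Z) = sw X * sw Z := fun X Z => by
    rw [sw, sw, sw, Matrix.submatrix_mul _ _ _ _ _ (Equiv.prodComm _ _).bijective]
    rfl
  have hxB : ∀ a Z, conjM (xB h2 a) Z = sw (conjM (xA h2 a) (sw Z)) := fun a Z => by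
    show conjM (W * xA h2 a * W⁻¹) Z = _
    rw [conjM_mul, conjM_mul, conjM_apply W, conjM_apply W⁻¹, inv_inv, W_inv]
    show Wm * _ * Wm = _
    rw [Wm_conj]
    show sw (conjM _ (Wm * Z * Wm)) = _
    rw [Wm_conj]
  have hD2 : ∀ Y, sw Y * N1 = N1 * sw Y → ∃ v, D Y = ((∑ a : F, a ^ 4) / 4) • (P' * v * P') := fun Y hY => by
    have := coTrace_sub_mem hφ ((xB h2).codRestrict M (hM.xB_mem h2)) (fun a => xB_TT h2 a) hB
      (fun a ha Z hZ b => by
        show conjM (xB h2 b) Z = Z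
        have hZ' : conjM (xB h2 a) Z = Z := hZ
        rw [hxB] at hZ' ⊢
        rw [xA_cent h2 a ha _ (by conv_rhs => rw [← hZ', sw_sw]) b, sw_sw])
      (LinearMap.range ((((∑ a : F, a ^ 4) / 4) • (LinearMap.mulLeft F P' ∘ₗ LinearMap.mulRight F P')) : Op F →ₗ[F] Op F))
      (fun Z => ⟨Z, by
        show ((∑ a : F, a ^ 4) / 4) • (P' * (Z * P')) = ∑ a, conjM (xB h2 a) Z
        simp only [hxB]
        rw [show ∑ a, sw (conjM (xA h2 a) (sw Z)) = swL (∑ a, conjM (xA h2 a) (sw Z)) by rw [map_sum]; rfl,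
          xA_sum h2 hq, map_smul]
        congr 1
        show P' * (Z * P') = sw (N1 * N1 * sw Z * (N1 * N1))
        rw [swmul, swmul, sw_sw, Matrix.mul_assoc]⟩)
      (fun a => by
        show conjM (xB h2 a) Y = Y
        rw [hxB, xA_fix h2 hY, sw_sw])
    obtain ⟨v, hv⟩ := this
    exact ⟨v, by rw [hDdef, LinearMap.sub_apply, ← hv, Matrix.mul_assoc]; rfl⟩
  -- the fixed vectors of both groups are killed
  let Fix : Submodule F (Mat3 F) := Submodule.span F {1, N, N * N}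
  have hFixc : ∀ X ∈ Fix, X * N = N * X := fun X hX => by
    induction hX using Submodule.span_induction with
    | mem x hx => rcases hx with rfl | rfl | rfl <;> simp [Matrix.mul_assoc]
    | zero => simp
    | add x y _ _ hx hy => rw [Matrix.add_mul, Matrix.mul_add, hx, hy]
    | smul c x _ hx => rw [Matrix.smul_mul, Matrix.mul_smul, hx]
  have hFix1 : ∀ X ∈ Fix, ∀ Y : Mat3 F, X ⊗ₖ Y * N1 = N1 * X ⊗ₖ Y := fun X hX Y => by
    rw [N1, ← mul_kronecker_mul, ← mul_kronecker_mul, hFixc X hX, Matrix.mul_one, Matrix.one_mul]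
  have hDD : ∀ X ∈ Fix, ∀ Y ∈ Fix, D (X ⊗ₖ Y) = 0 := fun X hX Y hY => by
    obtain ⟨v, hv⟩ := hD1 _ (hFix1 X hX Y)
    obtain ⟨w, hw⟩ := hD2 (X ⊗ₖ Y) (by rw [sw_kron]; exact hFix1 Y hY X)
    set s : F := (∑ a : F, a ^ 4) / 4
    have hP : P = (N * N) ⊗ₖ (1 : Mat3 F) := by
      show N1 * N1 = _
      rw [N1, ← mul_kronecker_mul, Matrix.one_mul]
    have hP' : P' = (1 : Mat3 F) ⊗ₖ (N * N) := by
      show sw P = _
      rw [hP, sw_kron]
    have hv' : ∀ i k j l : Fin 3, i ≠ 0 ∨ j ≠ 2 → (D (X ⊗ₖ Y)) (i, k) (j, l) = 0 := fun i k j l hij => by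
      rw [hv, hP, N_sq]
      fin_cases i <;> fin_cases j <;>
        simp [Matrix.mul_apply, Fintype.sum_prod_type, Fin.sum_univ_three, Matrix.one_apply] at hij ⊢
    have hw' : ∀ i k j l : Fin 3, k ≠ 0 ∨ l ≠ 2 → (D (X ⊗ₖ Y)) (i, k) (j, l) = 0 := fun i k j l hkl => by
      rw [hw, hP', N_sq]
      fin_cases k <;> fin_cases l <;>
        simp [Matrix.mul_apply, Fintype.sum_prod_type, Fin.sum_univ_three, Matrix.one_apply] at hkl ⊢
    have e : D (X ⊗ₖ Y) = D (X ⊗ₖ Y) (0, 0) (2, 2) • ((N * N) ⊗ₖ (N * N)) := by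
      ext ⟨i, k⟩ ⟨j, l⟩
      by_cases hij : i ≠ 0 ∨ j ≠ 2
      · rw [hv' i k j l hij, Matrix.smul_apply, Matrix.kroneckerMap_apply, N_sq]
        fin_cases i <;> fin_cases j <;> simp at hij ⊢
      by_cases hkl : k ≠ 0 ∨ l ≠ 2
      · rw [hw' i k j l hkl, Matrix.smul_apply, Matrix.kroneckerMap_apply, N_sq]
        fin_cases k <;> fin_cases l <;> simp at hkl ⊢
      push Not at hij hkl
      obtain ⟨rfl, rfl⟩ := hij
      obtain ⟨rfl, rfl⟩ := hkl
      simp [N_sq]
    have hsk := hskew (X ⊗ₖ Y)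
    rw [e, adj2_smul, adj2_kron, adj_NN, eq_neg_iff_add_eq_zero, ← two_smul F] at hsk
    rw [e]
    exact (smul_eq_zero.1 hsk).resolve_left h2
  let kerL : Mat3 F → Submodule F (Mat3 F) := fun Y =>
    { carrier := {X | D (X ⊗ₖ Y) = 0}
      add_mem' := fun {a b} ha hb => by
        show D ((a + b) ⊗ₖ Y) = 0
        rw [add_kronecker, map_add, show D (a ⊗ₖ Y) = 0 from ha, show D (b ⊗ₖ Y) = 0 from hb, add_zero]
      zero_mem' := by show D (0 ⊗ₖ Y) = 0; rw [zero_kronecker, map_zero]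
      smul_mem' := fun c x hx => by
        show D ((c • x) ⊗ₖ Y) = 0
        rw [smul_kronecker, map_smul, show D (x ⊗ₖ Y) = 0 from hx, smul_zero] }
  let kerR : Mat3 F → Submodule F (Mat3 F) := fun X =>
    { carrier := {Y | D (X ⊗ₖ Y) = 0}
      add_mem' := fun {a b} ha hb => by
        show D (X ⊗ₖ (a + b)) = 0
        rw [kronecker_add, map_add, show D (X ⊗ₖ a) = 0 from ha, show D (X ⊗ₖ b) = 0 from hb, add_zero]
      zero_mem' := by show D (X ⊗ₖ 0) = 0; rw [kronecker_zero, map_zero]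
      smul_mem' := fun c x hx => by
        show D (X ⊗ₖ (c • x)) = 0
        rw [kronecker_smul, map_smul, show D (X ⊗ₖ x) = 0 from hx, smul_zero] }
  have invL : ∀ Y : Mat3 F, ∀ s, ∀ X ∈ kerL Y, lM s * X * lM (-s) ∈ kerL Y := fun Y s X hX => by
    obtain ⟨k, hk, hkT, he⟩ := (hM.lA s).conj hM
    show D _ = 0
    have := hDk k hk hkT (X ⊗ₖ Y)
    rw [he, show D (X ⊗ₖ Y) = 0 from hX, map_zero, Matrix.one_mul, adj_one, Matrix.mul_one, adj_lM] at this
    exact this
  have invR : ∀ X : Mat3 F, ∀ s, ∀ Y ∈ kerR X, lM s * Y * lM (-s) ∈ kerR X := fun X s Y hY => by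
    obtain ⟨k, hk, hkT, he⟩ := (hM.lB s).conj hM
    show D _ = 0
    have := hDk k hk hkT (X ⊗ₖ Y)
    rw [he, show D (X ⊗ₖ Y) = 0 from hY, map_zero, Matrix.one_mul, adj_one, Matrix.mul_one, adj_lM] at this
    exact this
  have m1 : (1 : Mat3 F) ∈ Fix := Submodule.subset_span (Or.inl rfl)
  have mN : (N : Mat3 F) ∈ Fix := Submodule.subset_span (Or.inr (Or.inl rfl))
  have mNN : (N : Mat3 F) * N ∈ Fix := Submodule.subset_span (Or.inr (Or.inr rfl))
  have hall : ∀ X Y : Mat3 F, D (X ⊗ₖ Y) = 0 := by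
    by_cases h3 : (3 : F) ≠ 0
    · have hX : ∀ Y ∈ Fix, ∀ X, D (X ⊗ₖ Y) = 0 := fun Y hY X =>
        span_conj h2 hq (kerL Y) (hDD _ m1 Y hY) (hDD _ mN Y hY) (hDD _ mNN Y hY) (invL Y) X (Or.inr h3)
      exact fun X Y => span_conj h2 hq (kerR X) (hX _ m1 X) (hX _ mN X) (hX _ mNN X) (invR X) Y (Or.inr h3)
    · rw [not_not] at h3
      have hs : (∑ a : F, a ^ 4) = 0 := by
        refine FiniteField.sum_pow_lt_card_sub_one F 4 ?_
        by_contra hcon
        have h5 : Fintype.card F = 5 := by omega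
        have h50 : (5 : F) = 0 := by
          rw [← FiniteField.cast_card_eq_zero F, h5]; norm_num
        exact h2 (by linear_combination h50 - h3)
      have hl : ∀ X : Mat3 F, X.trace = 0 → ∀ Y, D (X ⊗ₖ Y) = 0 := fun X hX Y => by
        have hF : ∀ Z ∈ Fix, D (Z ⊗ₖ Y) = 0 := fun Z hZ => by
          obtain ⟨v, hv⟩ := hD1 _ (hFix1 Z hZ Y)
          rw [hv, hs, zero_div, zero_smul]
        exact span_conj h2 hq (kerL Y) (hF _ m1) (hF _ mN) (hF _ mNN) (invL Y) X (Or.inl hX)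
      have hr : ∀ Y : Mat3 F, Y.trace = 0 → ∀ X, D (X ⊗ₖ Y) = 0 := fun Y hY X => by
        have hF : ∀ Z ∈ Fix, D (X ⊗ₖ Z) = 0 := fun Z hZ => by
          obtain ⟨v, hv⟩ := hD2 (X ⊗ₖ Z) (by rw [sw_kron]; exact hFix1 Z hZ X)
          rw [hv, hs, zero_div, zero_smul]
        exact span_conj h2 hq (kerR X) (hF _ m1) (hF _ mN) (hF _ mNN) (invR X) Y (Or.inl hY)
      set E : Mat3 F := Matrix.single 1 1 1
      have hE : E.trace = 1 := by simp [E]
      have hfix : ∀ A B : Mat3 F, HasK M A B → Iso A → Iso B → ∀ g₁ : GL I9 F, g₁.1 = A ⊗ₖ B →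
          g₁.1 * D (E ⊗ₖ E) = D (E ⊗ₖ E) * g₁.1 := fun A B hk hA' hB' g₁ he₁ => by
        obtain ⟨k, hkM, hkv⟩ := hk
        have hk1 : g₁ = k := Units.ext (by rw [he₁, hkv])
        subst hk1
        have hd := hDk g₁ hkM (Or.inl ⟨A, B, hkv⟩) (E ⊗ₖ E)
        rw [conjM_apply g₁ (E ⊗ₖ E), (hM.iso g₁ hkM).inv_val, hkv, adj2_kron, ← mul_kronecker_mul,
          ← mul_kronecker_mul] at hd
        have e1 : (A * E * adj A) ⊗ₖ (B * E * adj B) = (A * E * adj A - E) ⊗ₖ (B * E * adj B) +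
            E ⊗ₖ (B * E * adj B - E) + E ⊗ₖ E := by
          rw [add_assoc, ← kronecker_add, sub_add_cancel, ← add_kronecker, sub_add_cancel]
        rw [e1, map_add, map_add, hl _ (traceless_conj hA' E), hr _ (traceless_conj hB' E), zero_add, zero_add,
          conjM_apply] at hd
        conv_rhs => rw [hd]
        rw [Matrix.mul_assoc, ← Units.val_mul, inv_mul_cancel, Units.val_one, Matrix.mul_one]
      set Z := D (E ⊗ₖ E)
      have hcA : ∀ C : Mat3 F, Iso C → ∀ a, (C * uM a * adj C) ⊗ₖ (1 : Mat3 F) * Z = Z * (C * uM a * adj C) ⊗ₖ 1 :=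
        fun C hC a => by
          obtain ⟨k, hk, e⟩ := hM.left C hC a
          rw [← e]
          exact hfix _ _ ⟨k, hk, e⟩ ((hC.mul (iso_uM h2 a)).mul hC.adj') iso_one k e
      have hcB : ∀ C : Mat3 F, Iso C → ∀ a, (1 : Mat3 F) ⊗ₖ (C * uM a * adj C) * Z = Z * 1 ⊗ₖ (C * uM a * adj C) :=
        fun C hC a => by
          obtain ⟨k, hk, e⟩ := hM.right C hC a
          rw [← e]
          exact hfix _ _ ⟨k, hk, e⟩ iso_one ((hC.mul (iso_uM h2 a)).mul hC.adj') k e
      have lin : ∀ (L R : Mat3 F →ₗ[F] Op F) (C : Mat3 F), (∀ a, L (C * uM a * adj C) = R (C * uM a * adj C)) →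
          L (C * N * adj C) = R (C * N * adj C) := fun L R C h => by
        have h1 := h 1
        have h0 := h (-1)
        simp only [uM_eq, Matrix.mul_add, Matrix.add_mul, Matrix.mul_smul, Matrix.smul_mul, map_add, map_smul,
          neg_sq] at h1 h0
        refine smul_right_injective (Op F) h2 ?_
        show (2 : F) • _ = (2 : F) • _
        linear_combination (norm := module) h1 - h0
      have hN1 : Z * N1 = N1 * Z := by
        have := lin ((LinearMap.mulRight F Z) ∘ₗ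
            kA)
          ((LinearMap.mulLeft F Z) ∘ₗ
            kA) 1 (fun a => hcA 1 iso_one a)
        simpa [adj_one, N1, kA] using this.symm
      have hNl : Z * (Nl ⊗ₖ 1) = Nl ⊗ₖ (1 : Mat3 F) * Z := by
        have := lin ((LinearMap.mulRight F Z) ∘ₗ
            kA)
          ((LinearMap.mulLeft F Z) ∘ₗ
            kA) J3 (fun a => hcA J3 iso_J3 a)
        have eN : J3 * N * adj J3 = (-1 : F) • (Nl : Mat3 F) := by
          rw [adj_eq]; ext i j; fin_cases i <;> fin_cases j <;> simp [J3, N, Nl]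
        rw [eN, map_smul, map_smul] at this
        exact (smul_right_injective (Op F) (neg_ne_zero.2 (one_ne_zero (α := F))) this).symm
      obtain ⟨C, hC⟩ := commutant_pair hN1 hNl
      have cR : ∀ D₀ : Mat3 F, Iso D₀ → C * (D₀ * N * adj D₀) = D₀ * N * adj D₀ * C := fun D₀ hD₀ => by
        have h1 := hcB D₀ hD₀ 1
        have h0 := hcB D₀ hD₀ (-1)
        rw [hC, ← mul_kronecker_mul, ← mul_kronecker_mul, Matrix.one_mul] at h1 h0
        have cancel : ∀ P Q : Mat3 F, (1 : Mat3 F) ⊗ₖ P = 1 ⊗ₖ Q → P = Q := fun P Q h => Matrix.ext fun k l => by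
          simpa using congrFun (congrFun h (0, k)) (0, l)
        have h1' := cancel _ _ h1
        have h0' := cancel _ _ h0
        simp only [uM_eq, Matrix.mul_add, Matrix.add_mul, Matrix.mul_smul, Matrix.smul_mul, neg_sq] at h1' h0'
        refine smul_right_injective (Mat3 F) h2 ?_
        show (2 : F) • _ = (2 : F) • _
        linear_combination (norm := module) h0' - h1'
      have c1 := cR 1 iso_one
      have c2 := cR J3 iso_J3
      rw [Matrix.one_mul, adj_one, Matrix.mul_one] at c1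
      have eC := commutant_N c1
      have hsc : C = C 0 0 • 1 := by
        have eN : J3 * N * adj J3 = (-1 : F) • (Nl : Mat3 F) := by
          rw [adj_eq]; ext i j; fin_cases i <;> fin_cases j <;> simp [J3, N, Nl]
        rw [eN] at c2
        have a0 := congrFun (congrFun c2 0) 0
        have a1 := congrFun (congrFun c2 0) 1
        rw [eC] at a0 a1
        simp [N, Nl, N_sq, Matrix.mul_apply, Matrix.vecMul, dotProduct, Fin.sum_univ_three] at a0 a1
        conv_lhs => rw [eC]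
        simp [a0, a1]
      have hZ0 : Z = 0 := by
        have hsk := hskew (E ⊗ₖ E)
        rw [show D (E ⊗ₖ E) = C 0 0 • ((1 : Mat3 F) ⊗ₖ (1 : Mat3 F)) by rw [← kronecker_smul, ← hsc]; exact hC,
          adj2_smul, adj2_kron, adj_one, eq_neg_iff_add_eq_zero, ← two_smul F] at hsk
        rw [hC, hsc, kronecker_smul]
        exact (smul_eq_zero.1 hsk).resolve_left h2
      intro X Y
      have : X ⊗ₖ Y = (X - X.trace • E) ⊗ₖ Y + (X.trace • E) ⊗ₖ (Y - Y.trace • E) +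
          (X.trace * Y.trace) • (E ⊗ₖ E) := by
        rw [← smul_smul, ← kronecker_smul, ← smul_kronecker, add_assoc, ← kronecker_add, sub_add_cancel,
          ← add_kronecker, sub_add_cancel]
      rw [this, map_add, map_add, map_smul, hl _ (by simp [Matrix.trace_sub, hE]),
        hr _ (by simp [Matrix.trace_sub, hE]), show D (E ⊗ₖ E) = 0 from hZ0, smul_zero, add_zero, add_zero]
  have heq : coTrace M TT phi hφ = phi :=
    ext_kron fun X Y => sub_eq_zero.1 (by rw [← LinearMap.sub_apply, ← hDdef]; exact hall X Y)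
  rw [← heq, coTrace_conjM hφ hg]

/-- Without fusion an overgroup lies in the stabiliser. -/
theorem le_of_noFuse (hM : Over M) (h2 : (2 : F) ≠ 0) (hq : 5 ≤ Fintype.card F) (hA : NoFuse M (xA h2))
    (hB : NoFuse M (xB h2)) : M ≤ TT := by
  intro g hg
  by_contra hgT
  have hc : ∀ Y, phi (conjM g⁻¹ Y) = conjM g⁻¹ (phi Y) :=
    fun Y => phi_conj_of_noFuse hM h2 hq hA hB (M.inv_mem hg) Y
  set E : Mat3 F := Matrix.single 1 1 1
  have hE : adj E = E := by
    rw [adj_eq]; ext i j; fin_cases i <;> fin_cases j <;> simp [E, Matrix.single]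
  have hphi : ∀ K : Mat3 F, adj K = -K → phi ((2 : F)⁻¹ • K ⊗ₖ E) = K ⊗ₖ 1 ∧ phi ((2 : F)⁻¹ • E ⊗ₖ K) = 1 ⊗ₖ K :=
    fun K hK => by
      have t : K.trace = 0 := skew_trace h2 hK
      have tE : E.trace = 1 := by simp [E]
      have k2 : (2 : F)⁻¹ • (K - -K) = K := by
        rw [sub_neg_eq_add, ← two_smul F K, smul_smul, inv_mul_cancel₀ h2, one_smul]
      rw [map_smul, map_smul, phi_kron, phi_kron, hE, hK, tE, Matrix.trace_neg, t, neg_zero]
      simp only [one_smul, zero_smul, sub_zero, kronecker_zero, zero_kronecker, add_zero, zero_add]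
      exact ⟨by rw [← smul_kronecker, k2], by rw [← kronecker_smul, k2]⟩
  have img : ∀ K : Mat3 F, adj K = -K → InL (conjM g⁻¹ (K ⊗ₖ 1)) ∧ InL (conjM g⁻¹ (1 ⊗ₖ K)) := fun K hK =>
    ⟨(hphi K hK).1 ▸ hc _ ▸ phi_inL _, (hphi K hK).2 ▸ hc _ ▸ phi_inL _⟩
  obtain ⟨K, K', hK, hK', hW0⟩ := (img N adj_N).1
  have hcomm : ∀ R : Mat3 F, adj R = -R → ∀ A A', adj A = -A → adj A' = -A' →
      conjM g⁻¹ (1 ⊗ₖ R) = A ⊗ₖ 1 + 1 ⊗ₖ A' → K * A = A * K ∧ K' * A' = A' * K' := by
    intro R hR A A' hA' hA'' e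
    have h := conjM_mul_mat g⁻¹ (N ⊗ₖ 1) (1 ⊗ₖ R)
    have h' := conjM_mul_mat g⁻¹ ((1 : Mat3 F) ⊗ₖ R) (N ⊗ₖ 1)
    rw [← mul_kronecker_mul, Matrix.one_mul, Matrix.mul_one, hW0, e] at h
    rw [← mul_kronecker_mul, Matrix.one_mul, Matrix.mul_one, hW0, e] at h'
    have h'' := h.symm.trans h'
    have key : (K * A - A * K) ⊗ₖ (1 : Mat3 F) + 1 ⊗ₖ (K' * A' - A' * K') = 0 := by
      rw [← sub_eq_zero] at h''
      simp only [Matrix.add_mul, Matrix.mul_add, ← mul_kronecker_mul, Matrix.one_mul, Matrix.mul_one] at h''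
      rw [← h'']
      ext i j
      simp only [Matrix.add_apply, Matrix.sub_apply, Matrix.kroneckerMap_apply, sub_mul, mul_sub]
      ring
    obtain ⟨e1, e2⟩ := InL.unique h2
      (by rw [adj_sub, adj_mul, adj_mul, hK, hA', neg_mul_neg, neg_mul_neg]; abel)
      (by rw [adj_sub, adj_mul, adj_mul, hK', hA'', neg_mul_neg, neg_mul_neg]; abel) key
    exact ⟨sub_eq_zero.1 e1, sub_eq_zero.1 e2⟩
  have pure : K = 0 ∨ K' = 0 := by
    by_contra! hne
    obtain ⟨A, A', hA', hA'', eA⟩ := (img N adj_N).2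
    obtain ⟨B, B', hB', hB'', eB⟩ := (img Nl adj_Nl).2
    obtain ⟨a1, a2⟩ := hcomm N adj_N A A' hA' hA'' eA
    obtain ⟨b1, b2⟩ := hcomm Nl adj_Nl B B' hB' hB'' eB
    obtain ⟨a, rfl⟩ := skew_commute h2 hK hA' hne.1 a1
    obtain ⟨a', rfl⟩ := skew_commute h2 hK' hA'' hne.2 a2
    obtain ⟨b, rfl⟩ := skew_commute h2 hK hB' hne.1 b1
    obtain ⟨b', rfl⟩ := skew_commute h2 hK' hB'' hne.2 b2
    refine N_Nl_comm (F := F) ?_
    have hh : conjM g⁻¹ ((1 : Mat3 F) ⊗ₖ (N * Nl)) = conjM g⁻¹ ((1 : Mat3 F) ⊗ₖ (Nl * N)) := by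
      rw [← Matrix.one_mul (1 : Mat3 F), mul_kronecker_mul, mul_kronecker_mul, conjM_mul_mat, conjM_mul_mat, eA, eB]
      simp only [Matrix.add_mul, Matrix.mul_add, ← mul_kronecker_mul, Matrix.one_mul, Matrix.mul_one,
        Matrix.smul_mul, Matrix.mul_smul, smul_kronecker, kronecker_smul, smul_smul]
      match_scalars <;> ring
    have hh' := congrArg (conjM g) hh
    rw [conjM_self_inv, conjM_self_inv] at hh'
    exact Matrix.ext fun k l => by simpa using congrFun (congrFun hh' (0, k)) (0, l)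
  obtain ⟨a, ha⟩ := hA g hg hgT
  refine ha (Or.inl ?_)
  have e : (g⁻¹ * xA h2 a * g).1 = 1 + a.toAdd • (K ⊗ₖ 1 + 1 ⊗ₖ K') +
      (a.toAdd ^ 2 / 2) • ((K ⊗ₖ 1 + 1 ⊗ₖ K') * (K ⊗ₖ 1 + 1 ⊗ₖ K')) := by
    have : (g⁻¹ * xA h2 a * g).1 = conjM g⁻¹ (xA h2 a).1 := by
      rw [conjM_apply, inv_inv, Units.val_mul, Units.val_mul]
    rw [this, show a = Multiplicative.ofAdd a.toAdd from rfl, xA_expand, map_add, map_add, map_smul, map_smul,
      conjM_one_mat, conjM_mul_mat, show (N1 : Op F) = N ⊗ₖ 1 from rfl, hW0]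
    rfl
  rcases pure with rfl | rfl
  · refine ⟨1, 1 + a.toAdd • K' + (a.toAdd ^ 2 / 2) • (K' * K'), ?_⟩
    rw [e, zero_kronecker, zero_add, ← mul_kronecker_mul, Matrix.one_mul, kronecker_add, kronecker_add, kronecker_smul,
      kronecker_smul, one_kronecker_one]
  · refine ⟨1 + a.toAdd • K + (a.toAdd ^ 2 / 2) • (K * K), 1, ?_⟩
    rw [e, kronecker_zero, add_zero, ← mul_kronecker_mul, Matrix.one_mul, add_kronecker, add_kronecker, smul_kronecker,
      smul_kronecker, one_kronecker_one]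

end CfsgLib.Classical.TensorSquareO3
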