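import Cfsg.Agent.Lib.Classical.TensorSquareO3.Three

/-!
# Orbits of the unipotent isometries on three by three matrices
-/

set_option autoImplicit false
set_option linter.unusedSectionVars false
set_option linter.style.longLine false

namespace CfsgLib.Classical.TensorSquareO3

open Matrix

variable {F : Type*} [Field F] [Fintype F]

theorem four_ne (h2 : (2 : F) ≠ 0) : (4 : F) ≠ 0 := by
  rw [show (4 : F) = 2 * 2 by norm_num]
  exact mul_ne_zero h2 h2

/-- A field of at least five elements has an element outside `0, 1, -1`. -/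
theorem exists_sq_ne (hq : 5 ≤ Fintype.card F) : ∃ t : F, t ≠ 0 ∧ t ^ 2 ≠ 1 := by
  classical
  obtain ⟨t, -, ht⟩ := Finset.exists_mem_notMem_of_card_lt_card (s := ({0, 1, -1} : Finset F)) (t := Finset.univ)
    (lt_of_le_of_lt Finset.card_le_three (by rw [Finset.card_univ]; omega))
  simp only [Finset.mem_insert, Finset.mem_singleton, not_or] at ht
  refine ⟨t, ht.1, fun h => ?_⟩
  rcases sq_eq_one_iff.1 h with h | h
  · exact ht.2.1 h
  · exact ht.2.2 h

/-- A polynomial function of degree at most four vanishes only with zero coefficients. -/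
theorem quartic_zero {W : Type*} [AddCommGroup W] [Module F W] (h2 : (2 : F) ≠ 0) (hq : 5 ≤ Fintype.card F) {c0 c1 c2 c3 c4 : W}
    (h : ∀ a : F, c0 + a • c1 + a ^ 2 • c2 + a ^ 3 • c3 + a ^ 4 • c4 = 0) :
    c0 = 0 ∧ c1 = 0 ∧ c2 = 0 ∧ c3 = 0 ∧ c4 = 0 := by
  obtain ⟨t, ht, ht2⟩ := exists_sq_ne hq
  have e0 : c0 = 0 := by simpa using h 0
  subst e0
  have ev : ∀ a : F, a ≠ 0 → a ^ 2 • c2 + a ^ 4 • c4 = 0 ∧ a • c1 + a ^ 3 • c3 = 0 := fun a _ => by
    have hp := h a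
    have hm := h (-a)
    refine ⟨smul_right_injective W h2 ?_, smul_right_injective W h2 ?_⟩
    · show (2 : F) • (a ^ 2 • c2 + a ^ 4 • c4) = (2 : F) • (0 : W)
      rw [smul_zero]
      linear_combination (norm := (simp only [neg_sq, (show ∀ x : F, (-x) ^ 3 = -(x ^ 3) from fun x => by ring),
        (show ∀ x : F, (-x) ^ 4 = x ^ 4 from fun x => by ring)]; module)) hp + hm
    · show (2 : F) • (a • c1 + a ^ 3 • c3) = (2 : F) • (0 : W)
      rw [smul_zero]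
      linear_combination (norm := (simp only [neg_sq, (show ∀ x : F, (-x) ^ 3 = -(x ^ 3) from fun x => by ring),
        (show ∀ x : F, (-x) ^ 4 = x ^ 4 from fun x => by ring)]; module)) hp - hm
  obtain ⟨a2, a1⟩ := ev 1 one_ne_zero
  obtain ⟨b2, b1⟩ := ev t ht
  have k1 : t ^ 2 - 1 ≠ 0 := sub_ne_zero.2 ht2
  have e3 : c3 = 0 := by
    refine smul_right_injective W (mul_ne_zero ht k1) ?_
    show (t * (t ^ 2 - 1)) • c3 = (t * (t ^ 2 - 1)) • (0 : W)
    rw [smul_zero]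
    linear_combination (norm := module) b1 - t • a1
  have e4 : c4 = 0 := by
    refine smul_right_injective W (mul_ne_zero (pow_ne_zero 2 ht) k1) ?_
    show (t ^ 2 * (t ^ 2 - 1)) • c4 = (t ^ 2 * (t ^ 2 - 1)) • (0 : W)
    rw [smul_zero]
    linear_combination (norm := module) b2 - t ^ 2 • a2
  subst e3 e4
  simp only [one_pow, one_smul, smul_zero, add_zero] at a1 a2
  exact ⟨rfl, a1, a2, rfl, rfl⟩

/-- Coefficients of a polynomial function of degree at most four lie in a submodule containing the values. -/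
theorem quartic_mem {W : Type*} [AddCommGroup W] [Module F W] (h2 : (2 : F) ≠ 0) (hq : 5 ≤ Fintype.card F)
    (S : Submodule F W) {c0 c1 c2 c3 c4 : W}
    (h : ∀ a : F, c0 + a • c1 + a ^ 2 • c2 + a ^ 3 • c3 + a ^ 4 • c4 ∈ S) :
    c0 ∈ S ∧ c1 ∈ S ∧ c2 ∈ S ∧ c3 ∈ S ∧ c4 ∈ S := by
  have := quartic_zero (W := W ⧸ S) h2 hq (c0 := S.mkQ c0) (c1 := S.mkQ c1) (c2 := S.mkQ c2) (c3 := S.mkQ c3)
    (c4 := S.mkQ c4) fun a => by
    rw [← map_smul, ← map_smul, ← map_smul, ← map_smul, ← map_add, ← map_add, ← map_add, ← map_add]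
    exact (Submodule.Quotient.mk_eq_zero S).2 (h a)
  simpa [Submodule.Quotient.mk_eq_zero] using this

theorem conj_l_N (s : F) :
    lM s * N * lM (-s) = (N : Mat3 F) + s • !![-1, 0, 0; 0, 0, 0; 0, 0, 1] + s ^ 2 • (-(2 : F)⁻¹ • Nl) +
      s ^ 3 • (0 : Mat3 F) + s ^ 4 • (0 : Mat3 F) ∨ (2 : F) = 0 := by
  by_cases h2 : (2 : F) = 0
  · exact Or.inr h2
  left
  ext i j
  fin_cases i <;> fin_cases j <;> simp [lM, N, Nl, Matrix.mul_apply, Fin.sum_univ_three] <;> (try field_simp) <;>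
    (try ring)

theorem conj_l_NN (h2 : (2 : F) ≠ 0) (s : F) :
    lM s * (N * N) * lM (-s) = (N : Mat3 F) * N + s • (-!![0, 1, 0; 0, 0, 1; 0, 0, 0]) +
      s ^ 2 • !![(2 : F)⁻¹, 0, 0; 0, -1, 0; 0, 0, (2 : F)⁻¹] + s ^ 3 • ((2 : F)⁻¹ • !![0, 0, 0; 1, 0, 0; 0, 1, 0]) +
      s ^ 4 • (-((2 : F)⁻¹ * (2 : F)⁻¹) • !![0, 0, 0; 0, 0, 0; 1, 0, 0]) := by
  rw [N_sq]
  ext i j
  fin_cases i <;> fin_cases j <;> simp [lM, Matrix.mul_apply, Fin.sum_univ_three] <;> (try field_simp) <;>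
    (try ring)

/-- A submodule invariant under the lower unipotents with `1`, `N` and `N²` contains the matrices of trace zero,
and everything unless the characteristic is three. -/
theorem span_conj (h2 : (2 : F) ≠ 0) (hq : 5 ≤ Fintype.card F) (S : Submodule F (Mat3 F)) (h1 : (1 : Mat3 F) ∈ S)
    (hN : (N : Mat3 F) ∈ S) (hNN : (N : Mat3 F) * N ∈ S) (hl : ∀ s, ∀ X ∈ S, lM s * X * lM (-s) ∈ S) :
    ∀ X : Mat3 F, X.trace = 0 ∨ (3 : F) ≠ 0 → X ∈ S := by
  obtain ⟨-, hH, hNl, -, -⟩ := quartic_mem h2 hq S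
    (fun a => (conj_l_N (F := F) a).resolve_right h2 ▸ hl a _ hN)
  obtain ⟨-, c1, c2, c3, c4⟩ := quartic_mem h2 hq S (fun a => conj_l_NN h2 a ▸ hl a _ hNN)
  have hNl' : (Nl : Mat3 F) ∈ S := by
    have := S.smul_mem (-(2 : F)) hNl
    rwa [smul_smul, neg_mul_neg, mul_inv_cancel₀ h2, one_smul] at this
  intro X hX
  have h4 := four_ne (F := F) h2
  obtain ⟨γ, ε, hγε⟩ : ∃ γ ε : F, γ + ε / 2 = (X 0 0 + X 2 2) / 2 ∧ γ - ε = X 1 1 := by
    by_cases h3 : (3 : F) = 0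
    · have ht : X 0 0 + X 1 1 + X 2 2 = 0 := by
        have := hX.resolve_right (not_not.2 h3)
        rwa [Matrix.trace_fin_three] at this
      refine ⟨X 1 1, 0, ?_, by simp⟩
      rw [zero_div, add_zero, eq_div_iff h2]
      linear_combination X 1 1 * h3 - ht
    · refine ⟨(X 0 0 + X 1 1 + X 2 2) / 3, (X 0 0 + X 1 1 + X 2 2) / 3 - X 1 1, ?_, by ring⟩
      field_simp
      ring
  obtain ⟨e1, e2⟩ := hγε
  have key : X = γ • (1 : Mat3 F) + ε • !![(2 : F)⁻¹, 0, 0; 0, -1, 0; 0, 0, (2 : F)⁻¹] +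
      ((X 2 2 - X 0 0) / 2) • !![-1, 0, 0; 0, 0, 0; 0, 0, 1] +
      ((X 0 1 - X 1 2) / 2) • N + (-(X 0 1 + X 1 2) / 2) • (-!![0, 1, 0; 0, 0, 1; 0, 0, 0]) +
      ((X 1 0 - X 2 1) / 2) • Nl + (X 1 0 + X 2 1) • ((2 : F)⁻¹ • !![0, 0, 0; 1, 0, 0; 0, 1, 0]) +
      (-(X 0 2)) • (N * N) + (-4 * X 2 0) • (-((2 : F)⁻¹ * (2 : F)⁻¹) • !![0, 0, 0; 0, 0, 0; 1, 0, 0]) := by
    rw [N_sq]
    ext i j
    fin_cases i <;> fin_cases j <;> simp [N, Nl] <;> field_simp <;>
      (try field_simp at e1) <;> grind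
  rw [key]
  exact S.add_mem (S.add_mem (S.add_mem (S.add_mem (S.add_mem (S.add_mem (S.add_mem (S.add_mem (S.smul_mem _ h1)
    (S.smul_mem _ c2)) (S.smul_mem _ hH)) (S.smul_mem _ hN)) (S.smul_mem _ c1)) (S.smul_mem _ hNl'))
    (S.smul_mem _ c3)) (S.smul_mem _ hNN)) (S.smul_mem _ c4)

/-- A self-adjoint matrix that all upper unipotents move by scalars only is `c + β N²`. -/
theorem isTop_of_Du_scalar (h2 : (2 : F) ≠ 0) (hq : 5 ≤ Fintype.card F) {a : Mat3 F} (ha : adj a = a)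
    (h : ∀ s : F, ∃ c : F, Du s a = c • 1) : IsTop a := by
  obtain ⟨r, w, v, x, y, z, rfl⟩ : ∃ r w v x y z : F, a = !![x, y, z; w, v, y; r, w, x] :=
    ⟨_, _, _, _, _, _, selfAdj_eq ha⟩
  have e : ∀ s : F, r * s = 0 ∧ s * (x - v) + 3 * s ^ 2 * w / 2 - r * s ^ 3 / 2 = 0 ∧
      s ^ 2 * (x - v) + s ^ 3 * w - r * s ^ 4 / 4 - 2 * s * y = 0 := fun s => by
    obtain ⟨c, hc⟩ := h s
    rw [Du_entries h2] at hc
    have e10 := congrFun (congrFun hc 1) 0
    have e01 := congrFun (congrFun hc 0) 1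
    have e02 := congrFun (congrFun hc 0) 2
    simp at e10 e01 e02
    exact ⟨by rcases e10 with e | e <;> simp [e], e01, e02⟩
  have hr : r = 0 := by simpa using (e 1).1
  subst hr
  obtain ⟨-, hy, hxv, hw, -⟩ := quartic_zero (W := F) h2 hq (c0 := 0) (c1 := -2 * y) (c2 := x - v) (c3 := w) (c4 := 0)
    fun s => by
      have := (e s).2.2
      simp only [smul_eq_mul]
      linear_combination this
  have hy' : y = 0 := (mul_eq_zero.1 hy).resolve_left (neg_ne_zero.2 h2)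
  have hxv' : x = v := sub_eq_zero.1 hxv
  subst hy' hxv' hw
  refine ⟨x, -z, ?_⟩
  rw [N_sq]
  ext i j
  fin_cases i <;> fin_cases j <;> simp

/-- Repeated differences of a non-scalar self-adjoint matrix reach a non-scalar `c + β N²`. -/
theorem exists_top (h2 : (2 : F) ≠ 0) (hq : 5 ≤ Fintype.card F) {S : Set (Mat3 F)} (hS : ∀ a ∈ S, adj a = a)
    (hD : ∀ a ∈ S, ∀ s, Du s a ∈ S) {a : Mat3 F} (ha : a ∈ S) (hns : ∀ c : F, a ≠ c • 1) :
    ∃ c β : F, β ≠ 0 ∧ c • 1 + β • (N * N) ∈ S := by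
  have step : ∀ b ∈ S, (∀ c : F, b ≠ c • 1) → IsTop b ∨ ∃ s, ∀ c : F, Du s b ≠ c • 1 := fun b hb _ => by
    by_contra! hh
    exact hh.1 (isTop_of_Du_scalar h2 hq (hS b hb) hh.2)
  have fin : ∀ b ∈ S, (∀ c : F, b ≠ c • 1) → IsTop b → ∃ c β : F, β ≠ 0 ∧ c • 1 + β • (N * N) ∈ S :=
    fun b hb hb' ⟨c, β, e⟩ => ⟨c, β, fun h0 => hb' c (by rw [e, h0, zero_smul, add_zero]), e ▸ hb⟩
  rcases step a ha hns with h | ⟨s, h1⟩
  · exact fin a ha hns h
  have hb1 := hD a ha s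
  obtain ⟨r, w, v, x, y, z, ea⟩ : ∃ r w v x y z : F, a = !![x, y, z; w, v, y; r, w, x] :=
    ⟨_, _, _, _, _, _, selfAdj_eq (hS a ha)⟩
  obtain ⟨w1, v1, x1, y1, z1, e1⟩ : ∃ w v x y z : F, Du s a = !![x, y, z; w, v, y; 0, w, x] := by
    rw [ea, Du_entries h2]; exact ⟨_, _, _, _, _, rfl⟩
  rcases step _ hb1 h1 with h | ⟨s2, h2'⟩
  · exact fin _ hb1 h1 h
  have hb2 := hD _ hb1 s2
  obtain ⟨v2, x2, y2, z2, e2⟩ : ∃ v x y z : F, Du s2 (Du s a) = !![x, y, z; 0, v, y; 0, 0, x] := by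
    rw [e1, Du_entries h2]
    exact ⟨_, _, _, _, by simp only [zero_mul, zero_div, sub_zero]; rfl⟩
  rcases step _ hb2 h2' with h | ⟨s3, h3⟩
  · exact fin _ hb2 h2' h
  have hb3 := hD _ hb2 s3
  obtain ⟨y3, z3, e3⟩ : ∃ y z : F, Du s3 (Du s2 (Du s a)) = !![0, y, z; 0, 0, y; 0, 0, 0] := by
    rw [e2, Du_entries h2]
    exact ⟨_, _, by simp only [zero_mul, mul_zero, zero_div, sub_zero, add_zero]; rfl⟩
  rcases step _ hb3 h3 with h | ⟨s4, h4⟩
  · exact fin _ hb3 h3 h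
  have hb4 := hD _ hb3 s4
  refine fin _ hb4 h4 ⟨0, 2 * s4 * y3, ?_⟩
  rw [e3, Du_entries h2, N_sq]
  ext i j
  fin_cases i <;> fin_cases j <;> simp

/-- `c + β N²` does not commute with its conjugate by a lower unipotent. -/
theorem top_not_comm (h2 : (2 : F) ≠ 0) {c β : F} (hβ : β ≠ 0) :
    (c • 1 + β • (N * N) : Mat3 F) * (lM 1 * (c • 1 + β • (N * N)) * lM (-1)) ≠
      lM 1 * (c • 1 + β • (N * N)) * lM (-1) * (c • 1 + β • (N * N)) := by
  intro h
  have e := congrFun (congrFun h 0) 0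
  rw [N_sq] at e
  simp [lM, Matrix.mul_apply, Matrix.vecMul, dotProduct, Fin.sum_univ_three] at e
  have h4 := four_ne (F := F) h2
  grind

theorem Du_skew (h2 : (2 : F) ≠ 0) (s α β γ : F) :
    Du s (α • H + β • N + γ • Nl : Mat3 F) = (-(γ * s)) • H + (α * s + γ * s ^ 2 / 2) • N := by
  rw [Du, adj_uM]
  ext i j
  fin_cases i <;> fin_cases j <;>
    simp [uM, H, N, Nl, Matrix.mul_apply, Fin.sum_univ_three] <;> (try field_simp) <;> ring

/-- An additive set of skew matrices, invariant under the unipotent isometries, with a non-zero member contains all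
skew matrices. -/
theorem skew_all (h2 : (2 : F) ≠ 0) {S : Set (Mat3 F)} (hadd : ∀ x ∈ S, ∀ y ∈ S, x + y ∈ S)
    (hneg : ∀ x ∈ S, -x ∈ S) (hu : ∀ s, ∀ x ∈ S, uM s * x * adj (uM s) ∈ S)
    (hl : ∀ s, ∀ x ∈ S, lM s * x * adj (lM s) ∈ S) {K : Mat3 F} (hK : adj K = -K) (hKS : K ∈ S) (hK0 : K ≠ 0) :
    ∀ X : Mat3 F, adj X = -X → X ∈ S := by
  have hD : ∀ s, ∀ x ∈ S, Du s x ∈ S := fun s x hx => by
    rw [Du, sub_eq_add_neg]; exact hadd _ hx _ (hneg _ (hu s x hx))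
  have key : ∀ α β γ : F, α • H + β • N + γ • Nl ∈ S → γ ≠ 0 → ∀ t : F, t • (N : Mat3 F) ∈ S := by
    intro α β γ hm hg t
    have h1 := hD 1 _ hm
    rw [Du_skew h2] at h1
    have h2' := hD (-t / γ) _ (show (-(γ * 1)) • H + (α * 1 + γ * 1 ^ 2 / 2) • N + (0 : F) • Nl ∈ S by
      rw [zero_smul, add_zero]; exact h1)
    rw [Du_skew h2] at h2'
    convert h2' using 1
    rw [zero_mul, neg_zero, zero_smul, zero_add]
    congr 1
    field_simp
    ring
  obtain ⟨α, β, γ, rfl⟩ : ∃ α β γ : F, K = α • H + β • N + γ • Nl := ⟨_, _, _, skew_eq h2 hK⟩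
  have hN : ∀ t : F, t • (N : Mat3 F) ∈ S := by
    by_cases hg : γ = 0
    · subst hg
      -- conjugating by a lower unipotent makes the last coefficient non-zero
      have hl' := fun s => hl s _ hKS
      have e : ∀ s : F, lM s * (α • H + β • N + (0 : F) • Nl) * adj (lM s) =
          (α - β * s) • H + β • N + (α * s - β * s ^ 2 / 2) • Nl := fun s => by
        rw [adj_lM]
        ext i j
        fin_cases i <;> fin_cases j <;>
          simp [lM, H, N, Nl, Matrix.mul_apply, Fin.sum_univ_three] <;> (try field_simp) <;> ring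
      obtain ⟨s, hs⟩ : ∃ s : F, α * s - β * s ^ 2 / 2 ≠ 0 := by
        by_contra! hh
        have h1 := hh 1
        have h1' := hh (-1)
        have hb : β = 0 := by field_simp at h1 h1'; grind
        have ha : α = 0 := by field_simp at h1 h1'; grind
        subst ha hb
        simp at hK0
      exact key _ _ _ (e s ▸ hl' s) hs
    · exact key α β γ hKS hg
  intro X hX
  obtain ⟨a, b, c, rfl⟩ : ∃ a b c : F, X = a • H + b • N + c • Nl := ⟨_, _, _, skew_eq h2 hX⟩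
  have hA : ∀ s t : F, (-(t * s)) • H + t • N + (-(t * s ^ 2 / 2)) • Nl ∈ S := fun s t => by
    convert hl s _ (hN t) using 1
    rw [adj_lM]
    ext i j
    fin_cases i <;> fin_cases j <;>
      simp [lM, H, N, Nl, Matrix.mul_apply, Fin.sum_univ_three] <;> (try field_simp) <;> ring
  have hH : ∀ t : F, t • (H : Mat3 F) ∈ S := fun t => by
    convert hadd _ (hA (-1) (t / 2)) _ (hneg _ (hA 1 (t / 2))) using 1
    match_scalars <;> field_simp <;> ring
  have hNl : ∀ t : F, t • (Nl : Mat3 F) ∈ S := fun t => by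
    convert hadd _ (hadd _ (hA 1 (-(2 * t))) _ (hH (-(2 * t)))) _ (hN (2 * t)) using 1
    match_scalars <;> field_simp <;> ring
  exact hadd _ (hadd _ (hH a) _ (hN b)) _ (hNl c)

end CfsgLib.Classical.TensorSquareO3
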