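import Mathlib

/-!
# Three by three matrices for the form with Gram matrix antidiag(1, 1, 1)

`adj` is the adjoint, `N` the regular nilpotent skew matrix, `uM` and `lM` the upper and lower
unipotent isometries.
-/

set_option autoImplicit false
set_option linter.unusedSectionVars false
set_option linter.style.longLine false

namespace CfsgLib.Classical.TensorSquareO3

open Matrix

variable {F : Type*} [Field F]

/-- Three by three matrices. -/
abbrev Mat3 (F : Type*) := Matrix (Fin 3) (Fin 3) F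

/-- The Gram matrix. -/
def J3 : Mat3 F := !![0, 0, 1; 0, 1, 0; 1, 0, 0]

/-- The adjoint for the form of `J3`. -/
def adj (X : Mat3 F) : Mat3 F := J3 * Xᵀ * J3

theorem adj_eq (X : Mat3 F) :
    adj X = !![X 2 2, X 1 2, X 0 2; X 2 1, X 1 1, X 0 1; X 2 0, X 1 0, X 0 0] := by
  ext i j
  fin_cases i <;> fin_cases j <;> simp [adj, J3, Matrix.mul_apply, Fin.sum_univ_three, Matrix.vecMul, dotProduct]

theorem J3_mul_self : (J3 : Mat3 F) * J3 = 1 := by
  ext i j
  fin_cases i <;> fin_cases j <;> simp [J3, Matrix.mul_apply, Fin.sum_univ_three]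

theorem adj_mul (X Y : Mat3 F) : adj (X * Y) = adj Y * adj X := by
  simp only [adj, transpose_mul, Matrix.mul_assoc]
  rw [← Matrix.mul_assoc J3 J3, J3_mul_self, Matrix.one_mul]

theorem adj_adj (X : Mat3 F) : adj (adj X) = X := by
  rw [adj_eq (adj X), adj_eq X]
  ext i j
  fin_cases i <;> fin_cases j <;> simp

theorem adj_one : adj (1 : Mat3 F) = 1 := by rw [adj, transpose_one, Matrix.mul_one, J3_mul_self]

theorem adj_add (X Y : Mat3 F) : adj (X + Y) = adj X + adj Y := by
  simp [adj, Matrix.mul_add, Matrix.add_mul]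

theorem adj_sub (X Y : Mat3 F) : adj (X - Y) = adj X - adj Y := by
  simp [adj, Matrix.mul_sub, Matrix.sub_mul]

theorem adj_neg (X : Mat3 F) : adj (-X) = -adj X := by simp [adj]

theorem adj_smul (c : F) (X : Mat3 F) : adj (c • X) = c • adj X := by simp [adj]

theorem adj_zero : adj (0 : Mat3 F) = 0 := by simp [adj]

/-- An isometry of the form. -/
def Iso (C : Mat3 F) : Prop := adj C * C = 1

theorem Iso.mul_adj {C : Mat3 F} (h : Iso C) : C * adj C = 1 := mul_eq_one_comm.1 h

theorem Iso.adj' {C : Mat3 F} (h : Iso C) : Iso (adj C) := by rw [Iso, adj_adj]; exact h.mul_adj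

theorem Iso.mul {C D : Mat3 F} (h : Iso C) (h' : Iso D) : Iso (C * D) := by
  rw [Iso, adj_mul, Matrix.mul_assoc, ← Matrix.mul_assoc (adj C), h, Matrix.one_mul, h']

theorem iso_one : Iso (1 : Mat3 F) := by rw [Iso, adj_one, Matrix.one_mul]

theorem iso_J3 : Iso (J3 : Mat3 F) := by
  rw [Iso, show adj (J3 : Mat3 F) = J3 by rw [adj_eq]; ext i j; fin_cases i <;> fin_cases j <;> simp [J3],
    J3_mul_self]

/-- The regular nilpotent skew matrix. -/
def N : Mat3 F := !![0, 1, 0; 0, 0, -1; 0, 0, 0]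

/-- Its opposite. -/
def Nl : Mat3 F := !![0, 0, 0; 1, 0, 0; 0, -1, 0]

/-- The diagonal skew matrix. -/
def H : Mat3 F := !![1, 0, 0; 0, 0, 0; 0, 0, -1]

theorem N_sq : (N : Mat3 F) * N = !![0, 0, -1; 0, 0, 0; 0, 0, 0] := by
  ext i j
  fin_cases i <;> fin_cases j <;> simp [N, Matrix.mul_apply, Fin.sum_univ_three]

theorem N_cube : (N : Mat3 F) * (N * N) = 0 := by
  rw [N_sq]
  ext i j
  fin_cases i <;> fin_cases j <;> simp [N, Matrix.mul_apply, Fin.sum_univ_three]

theorem adj_N : adj (N : Mat3 F) = -N := by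
  rw [adj_eq]; ext i j; fin_cases i <;> fin_cases j <;> simp [N]

theorem adj_NN : adj ((N : Mat3 F) * N) = N * N := by rw [adj_mul, adj_N, Matrix.neg_mul, Matrix.mul_neg, neg_neg]

/-- The upper unipotent isometries. -/
def uM (a : F) : Mat3 F := !![1, a, -(a ^ 2 / 2); 0, 1, -a; 0, 0, 1]

/-- The lower unipotent isometries. -/
def lM (a : F) : Mat3 F := !![1, 0, 0; a, 1, 0; -(a ^ 2 / 2), -a, 1]

theorem uM_eq (a : F) : uM a = 1 + a • (N : Mat3 F) + (a ^ 2 / 2) • (N * N) := by
  rw [N_sq]; ext i j; fin_cases i <;> fin_cases j <;> simp [uM, N]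

theorem adj_uM (a : F) : adj (uM a) = uM (-a) := by
  rw [adj_eq]; ext i j; fin_cases i <;> fin_cases j <;> simp [uM]

theorem adj_lM (a : F) : adj (lM a) = lM (-a) := by
  rw [adj_eq]; ext i j; fin_cases i <;> fin_cases j <;> simp [lM]

theorem uM_zero : uM (0 : F) = 1 := by ext i j; fin_cases i <;> fin_cases j <;> simp [uM]

theorem uM_add (h2 : (2 : F) ≠ 0) (a b : F) : uM a * uM b = uM (a + b) := by
  ext i j
  fin_cases i <;> fin_cases j <;> simp [uM, Matrix.mul_apply, Fin.sum_univ_three] <;> (try field_simp) <;> ring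

theorem lM_eq (a : F) : lM a = J3 * uM (-a) * J3 := by
  ext i j
  fin_cases i <;> fin_cases j <;> simp [lM, uM, J3, Matrix.mul_apply, Fin.sum_univ_three]

theorem iso_uM (h2 : (2 : F) ≠ 0) (a : F) : Iso (uM a) := by
  rw [Iso, adj_uM, uM_add h2, neg_add_cancel, uM_zero]

theorem iso_lM (h2 : (2 : F) ≠ 0) (a : F) : Iso (lM a) := by
  rw [lM_eq]; exact (iso_J3.mul (iso_uM h2 _)).mul iso_J3

theorem lM_transpose (a : F) : (lM a)ᵀ = uM a := by ext i j; fin_cases i <;> fin_cases j <;> simp [uM, lM]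

theorem uM_transpose (a : F) : (uM a)ᵀ = lM a := by ext i j; fin_cases i <;> fin_cases j <;> simp [uM, lM]

/-! ### Commutants -/

theorem commutant_N {X : Mat3 F} (h : X * N = N * X) :
    X = X 0 0 • (1 : Mat3 F) + X 0 1 • N + (-(X 0 2)) • (N * N) := by
  have e : ∀ i j : Fin 3, (HMul.hMul X N : Mat3 F) i j = (HMul.hMul N X : Mat3 F) i j :=
    fun i j => congrFun (congrFun h i) j
  have h00 := e 0 0
  have h01 := e 0 1
  have h02 := e 0 2
  have h10 := e 1 0
  have h11 := e 1 1
  have h12 := e 1 2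
  have h21 := e 2 1
  have h22 := e 2 2
  simp [N, Matrix.mul_apply, Fin.sum_univ_three] at h00 h01 h02 h10 h11 h12 h21 h22
  rw [N_sq]
  ext i j
  fin_cases i <;> fin_cases j <;> simp [N] <;> grind

theorem N_mem_adjoin (h2 : (2 : F) ≠ 0) {a : F} (ha : a ≠ 0) :
    (N : Mat3 F) = a⁻¹ • ((uM a - 1) - (2 : F)⁻¹ • ((uM a - 1) * (uM a - 1))) := by
  ext i j
  fin_cases i <;> fin_cases j <;> simp [uM, N, Matrix.mul_apply, Fin.sum_univ_three] <;> (try field_simp) <;> (try ring_nf) <;> simp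

/-! ### Skew matrices -/

theorem skew_eq (h2 : (2 : F) ≠ 0) {K : Mat3 F} (h : adj K = -K) : K = K 0 0 • H + K 0 1 • N + K 1 0 • Nl := by
  have e : ∀ i j : Fin 3, adj K i j = -(K i j) := fun i j => by rw [h]; rfl
  have h00 := e 0 0
  have h02 := e 0 2
  have h11 := e 1 1
  have h20 := e 2 0
  have h12 := e 1 2
  have h21 := e 2 1
  simp [adj_eq] at h00 h02 h11 h20 h12 h21
  have z : ∀ x : F, x = -x → x = 0 := fun x hx => by
    have : (2 : F) * x = 0 := by linear_combination hx
    exact (mul_eq_zero.1 this).resolve_left h2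
  have := z _ h02
  have := z _ h11
  have := z _ h20
  ext i j
  fin_cases i <;> fin_cases j <;> simp [H, N, Nl] <;> grind

theorem skew_trace (h2 : (2 : F) ≠ 0) {K : Mat3 F} (h : adj K = -K) : K.trace = 0 := by
  rw [skew_eq h2 h]; simp [Matrix.trace_fin_three, H, N, Nl]

theorem skew_sq_zero (h2 : (2 : F) ≠ 0) {P : Mat3 F} (h : adj P = -P) (hP : P * P = 0) : P = 0 := by
  obtain ⟨α, β, γ, rfl⟩ : ∃ α β γ : F, P = α • H + β • N + γ • Nl := ⟨_, _, _, skew_eq h2 h⟩
  have e : ∀ i j : Fin 3, (HMul.hMul (α • H + β • N + γ • Nl : Mat3 F) (α • H + β • N + γ • Nl) : Mat3 F) i j = 0 :=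
    fun i j => congrFun (congrFun hP i) j
  have h02 := e 0 2
  have h20 := e 2 0
  have h00 := e 0 0
  simp [H, N, Nl, Matrix.mul_apply, Fin.sum_univ_three] at h02 h20 h00
  subst h02; subst h20
  simp at h00
  subst h00
  simp

theorem skew_commute (h2 : (2 : F) ≠ 0) {K S : Mat3 F} (hK : adj K = -K) (hS : adj S = -S) (hK0 : K ≠ 0)
    (hc : K * S = S * K) : ∃ c : F, S = c • K := by
  obtain ⟨α, β, γ, rfl⟩ : ∃ α β γ : F, K = α • H + β • N + γ • Nl := ⟨_, _, _, skew_eq h2 hK⟩
  obtain ⟨α', β', γ', rfl⟩ : ∃ α β γ : F, S = α • H + β • N + γ • Nl := ⟨_, _, _, skew_eq h2 hS⟩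
  have e : ∀ i j : Fin 3, (HMul.hMul (α • H + β • N + γ • Nl : Mat3 F) (α' • H + β' • N + γ' • Nl) : Mat3 F) i j =
    (HMul.hMul (α' • H + β' • N + γ' • Nl : Mat3 F) (α • H + β • N + γ • Nl) : Mat3 F) i j :=
    fun i j => congrFun (congrFun hc i) j
  have h01 := e 0 1
  have h10 := e 1 0
  have h00 := e 0 0
  simp [H, N, Nl, Matrix.mul_apply, Fin.sum_univ_three] at h01 h10 h00
  by_cases ha : α = 0
  · subst ha
    by_cases hb : β = 0
    · subst hb
      have hg : γ ≠ 0 := fun h => hK0 (by subst h; simp)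
      refine ⟨γ' / γ, ?_⟩
      have h1 : α' = 0 := by grind
      have h2 : β' = 0 := by grind
      subst h1; subst h2
      simp [smul_smul, hg]
    · refine ⟨β' / β, ?_⟩
      have h1 : α' = 0 := by grind
      have h2 : γ' = β' / β * γ := by field_simp; grind
      subst h1
      rw [h2]
      simp [smul_add, smul_smul, hb]
  · refine ⟨α' / α, ?_⟩
    have h1 : β' = α' / α * β := by field_simp; grind
    have h2 : γ' = α' / α * γ := by field_simp; grind
    rw [h1, h2]
    simp [smul_add, smul_smul, ha]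

theorem N_Nl_comm : (N : Mat3 F) * Nl ≠ Nl * N := fun h => by
  simpa [N, Nl, Matrix.mul_apply, Fin.sum_univ_three] using congrFun (congrFun h 0) 0

theorem adj_Nl : adj (Nl : Mat3 F) = -Nl := by
  rw [adj_eq]; ext i j; fin_cases i <;> fin_cases j <;> simp [Nl]

theorem adj_H : adj (H : Mat3 F) = -H := by
  rw [adj_eq]; ext i j; fin_cases i <;> fin_cases j <;> simp [H]

/-- A nonzero skew matrix of cube zero is conjugate to `N` by an isometry. -/
theorem exists_iso_conj_N (h2 : (2 : F) ≠ 0) {P : Mat3 F} (hP : adj P = -P) (h3 : P * (P * P) = 0) (h0 : P ≠ 0) :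
    ∃ C, Iso C ∧ C * P * adj C = N := by
  obtain ⟨α, β, γ, rfl⟩ : ∃ α β γ : F, P = α • H + β • N + γ • Nl := ⟨_, _, _, skew_eq h2 hP⟩
  have hinv : α ^ 2 + 2 * β * γ = 0 := by
    have e : ∀ i j : Fin 3, (HMul.hMul (α • H + β • N + γ • Nl : Mat3 F)
        ((α • H + β • N + γ • Nl : Mat3 F) * (α • H + β • N + γ • Nl)) : Mat3 F) i j = 0 :=
      fun i j => congrFun (congrFun h3 i) j
    have e00 := e 0 0
    have e01 := e 0 1
    have e10 := e 1 0
    simp [H, N, Nl, Matrix.mul_apply, Fin.sum_univ_three] at e00 e01 e10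
    by_contra hne
    have ha : α = 0 := by
      have : α * (α ^ 2 + 2 * β * γ) = 0 := by linear_combination e00
      exact (mul_eq_zero.1 this).resolve_right hne
    have hb : β = 0 := by
      have : β * (α ^ 2 + 2 * β * γ) = 0 := by linear_combination e01
      exact (mul_eq_zero.1 this).resolve_right hne
    have hg : γ = 0 := by
      have : γ * (α ^ 2 + 2 * β * γ) = 0 := by linear_combination e10
      exact (mul_eq_zero.1 this).resolve_right hne
    subst ha; subst hb; subst hg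
    simp at hne
  -- scaling
  have hscale : ∀ μ : F, μ ≠ 0 → ∃ C, Iso C ∧ C * (μ • N) * adj C = (N : Mat3 F) := fun μ hμ => by
    refine ⟨!![μ⁻¹, 0, 0; 0, 1, 0; 0, 0, μ], ?_, ?_⟩
    · rw [Iso, adj_eq]
      ext i j
      fin_cases i <;> fin_cases j <;> simp [Matrix.mul_apply, Fin.sum_univ_three, hμ]
    · rw [adj_eq]
      ext i j
      fin_cases i <;> fin_cases j <;> simp [N, Matrix.mul_apply, Fin.sum_univ_three, hμ]
  by_cases hg : γ = 0
  · subst hg
    have ha : α = 0 := by simpa using hinv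
    subst ha
    have hb : β ≠ 0 := fun h => h0 (by subst h; simp)
    simpa using hscale β hb
  · -- kill `α` by an upper unipotent, then exchange the two isotropic lines
    set s := -α / γ with hs
    have hb : β = -(α ^ 2) / (2 * γ) := by field_simp; linear_combination hinv
    have key : uM s * (α • H + β • N + γ • Nl) * adj (uM s) = γ • (Nl : Mat3 F) := by
      rw [adj_uM]
      ext i j
      fin_cases i <;> fin_cases j <;>
        simp [uM, H, N, Nl, Matrix.mul_apply, Fin.sum_univ_three, hs, hb] <;> field_simp <;> ring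
    have key2 : J3 * (γ • Nl) * adj J3 = (-γ) • (N : Mat3 F) := by
      rw [adj_eq]
      ext i j
      fin_cases i <;> fin_cases j <;> simp [J3, N, Nl, Matrix.mul_apply, Fin.sum_univ_three]
    obtain ⟨C, hC, hCe⟩ := hscale (-γ) (neg_ne_zero.2 hg)
    refine ⟨C * J3 * uM s, (hC.mul iso_J3).mul (iso_uM h2 s), ?_⟩
    rw [adj_mul, adj_mul]
    calc C * J3 * uM s * (α • H + β • N + γ • Nl) * (adj (uM s) * (adj J3 * adj C))
        = C * (J3 * (uM s * (α • H + β • N + γ • Nl) * adj (uM s)) * adj J3) * adj C := by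
          simp only [Matrix.mul_assoc]
      _ = N := by rw [key, key2, hCe]

/-! ### Self-adjoint matrices -/

/-- Self-adjoint matrices of the form `c + β N²`. -/
def IsTop (a : Mat3 F) : Prop := ∃ c β : F, a = c • 1 + β • (N * N)

theorem selfAdj_eq {a : Mat3 F} (ha : adj a = a) :
    a = !![a 0 0, a 0 1, a 0 2; a 1 0, a 1 1, a 0 1; a 2 0, a 1 0, a 0 0] := by
  conv_lhs => rw [← ha, adj_eq]
  have e : ∀ i j : Fin 3, adj a i j = a i j := fun i j => by rw [ha]
  have h00 := e 0 0
  have h12 := e 1 2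
  have h21 := e 2 1
  simp [adj_eq] at h00 h12 h21
  ext i j
  fin_cases i <;> fin_cases j <;> simp <;> grind

/-- The difference of a matrix and its conjugate by `uM s`. -/
def Du (s : F) (a : Mat3 F) : Mat3 F := a - uM s * a * adj (uM s)

theorem adj_Du {a : Mat3 F} (s : F) (ha : adj a = a) : adj (Du s a) = Du s a := by
  simp only [Du, adj_sub, adj_mul, adj_adj, ha, Matrix.mul_assoc]

theorem Du_entries (h2 : (2 : F) ≠ 0) (s r w v x y z : F) :
    Du s !![x, y, z; w, v, y; r, w, x] =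
      !![r * s ^ 2 / 2 - s * w, s * (x - v) + 3 * s ^ 2 * w / 2 - r * s ^ 3 / 2,
          s ^ 2 * (x - v) + s ^ 3 * w - r * s ^ 4 / 4 - 2 * s * y;
         r * s, 2 * s * w - r * s ^ 2, s * (x - v) + 3 * s ^ 2 * w / 2 - r * s ^ 3 / 2;
         0, r * s, r * s ^ 2 / 2 - s * w] := by
  have h4 : (4 : F) ≠ 0 := by
    rw [show (4 : F) = 2 * 2 by norm_num]; exact mul_ne_zero h2 h2
  rw [Du, adj_uM]
  ext i j
  fin_cases i <;> fin_cases j <;>
    simp [uM, Matrix.mul_apply, Fin.sum_univ_three] <;> (try field_simp) <;> ring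

end CfsgLib.Classical.TensorSquareO3
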